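import Cfsg.Agent.Lib.Char.Integral
import Cfsg.Agent.Lib.Char.Orbit
import Cfsg.Agent.Lib.Blocks.Center

/-!
Sums of a character over a cyclic `p`-subgroup, and characters of a group with a normal subgroup whose cosets
are single classes.
-/

set_option autoImplicit false
set_option linter.style.haveILetI false
set_option linter.unusedSectionVars false

namespace Cfsg.Agent.XClosedP

open Cfsg Cfsg.Agent.Char Module
open scoped ComplexConjugate

universe u

variable {G : Type u} [Group G]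

theorem sum_geom_root {z : ℂ} {n : ℕ} (hz : z ^ n = 1) :
    ∑ j ∈ Finset.range n, z ^ j = (n : ℂ) * if z = 1 then 1 else 0 := by
  by_cases h : z = 1
  · simp [h]
  · rw [if_neg h, mul_zero]
    have h1 := geom_sum_mul z n
    rw [hz, sub_self] at h1
    exact (mul_eq_zero.1 h1).resolve_right (sub_ne_zero.2 h)

open scoped Classical in
theorem sum_powers (L : Multiset ℂ) {n : ℕ} (h : ∀ z ∈ L, z ^ n = 1) :
    ∑ j ∈ Finset.range n, (L.map fun z => z ^ j).sum = (n : ℂ) * (L.countP (· = 1) : ℕ) := by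
  induction L using Multiset.induction with
  | empty => simp
  | cons z L ih =>
    simp only [Multiset.map_cons, Multiset.sum_cons, Finset.sum_add_distrib, Multiset.countP_cons]
    rw [sum_geom_root (h z (Multiset.mem_cons_self _ _)), ih fun w hw => h w (Multiset.mem_cons_of_mem hw)]
    split_ifs <;> simp <;> ring

variable {p N : ℕ} [NeZero N]

/-- A power with exponent modulo `N`. -/
def pw (h : G) (k : ZMod N) : G := h ^ k.val

theorem pw_add {h : G} (hh : h ^ N = 1) (k l : ZMod N) : pw h (k + l) = pw h k * pw h l := by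
  unfold pw
  rw [ZMod.val_add, ← pow_add, ← pow_eq_pow_mod _ hh]

theorem pw_natCast {h : G} (hh : h ^ N = 1) (j : ℕ) : pw h (j : ZMod N) = h ^ j := by
  unfold pw
  rw [ZMod.val_natCast, ← pow_eq_pow_mod _ hh]

theorem pw_mul {h : G} (hh : h ^ N = 1) (k l : ZMod N) : pw h (k * l) = pw h k ^ l.val := by
  unfold pw
  rw [ZMod.val_mul, ← pow_eq_pow_mod _ hh, pow_mul]

theorem pw_zero (h : G) : pw h (0 : ZMod N) = 1 := by simp [pw]

variable [Finite G]

open scoped Classical in
/-- The multiplicities of the fixed points of `h` and of `h ^ p`. -/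
theorem exists_fix {χ : G → ℂ} (hχ : Cfsg.IsCharacter G χ) {h : G} (hh : h ^ N = 1) (hpN : p ∣ N) :
    ∃ D D' d : ℕ, χ 1 = d ∧ D ≤ D' ∧ D' ≤ d ∧ (∑ k : ZMod N, χ (pw h k)) = (N : ℂ) * D ∧
      ∑ k ∈ Finset.univ.filter (fun k : ZMod N => p ∣ k.val), χ (pw h k) = ((N / p : ℕ) : ℂ) * D' := by
  obtain ⟨n, ρ, rfl⟩ := hχ
  obtain ⟨L, hcard, hord, hpow, -⟩ := exists_eigenvalues ρ h
  have hroot : ∀ z ∈ L, z ^ N = 1 := fun z hz => by
    obtain ⟨e, he⟩ := orderOf_dvd_of_pow_eq_one hh
    rw [he, pow_mul, hord z hz, one_pow]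
  obtain ⟨q, hq⟩ := hpN
  have hN0 : N ≠ 0 := NeZero.ne N
  have hp0 : 0 < p := Nat.pos_of_ne_zero fun e => hN0 (by rw [hq, e, zero_mul])
  have hq' : N / p = q := by rw [hq, Nat.mul_div_cancel_left _ hp0]
  refine ⟨L.countP (· = 1), L.countP (fun z => z ^ p = 1), n, ?_, ?_, ?_, ?_, ?_⟩
  · rw [Representation.char_one]; simp
  · rw [Multiset.countP_eq_card_filter, Multiset.countP_eq_card_filter]
    exact Multiset.card_le_card (Multiset.monotone_filter_right _ fun z hz => by simp [hz])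
  · calc L.countP (fun z => z ^ p = 1) ≤ Multiset.card L := Multiset.countP_le_card _ _
      _ = n := by rw [hcard]; simp
  · rw [← sum_powers L hroot]
    refine Finset.sum_nbij' (fun k : ZMod N => k.val) (fun j : ℕ => (j : ZMod N))
      (fun k _ => Finset.mem_range.2 (ZMod.val_lt k)) (fun j _ => Finset.mem_univ _)
      (fun k _ => ZMod.natCast_rightInverse k) (fun j hj => ZMod.val_cast_of_lt (Finset.mem_range.1 hj))
      (fun k _ => hpow _)
  · rw [hq']
    have e : L.countP (fun z => z ^ p = 1) = (L.map (· ^ p)).countP (· = 1) := by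
      rw [Multiset.countP_map, Multiset.countP_eq_card_filter]
    rw [e, ← sum_powers (L.map (· ^ p)) (n := q) (fun z hz => by
      obtain ⟨w, hw, rfl⟩ := Multiset.mem_map.1 hz
      rw [← pow_mul, ← hq, hroot w hw])]
    refine Finset.sum_nbij' (fun k : ZMod N => k.val / p) (fun j : ℕ => ((p * j : ℕ) : ZMod N))
      (fun k hk => Finset.mem_range.2 ?_) (fun j hj => ?_) (fun k hk => ?_) (fun j hj => ?_) (fun k hk => ?_)
    · rw [Nat.div_lt_iff_lt_mul hp0, mul_comm, ← hq]; exact ZMod.val_lt k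
    · rw [Finset.mem_filter]
      refine ⟨Finset.mem_univ _, ?_⟩
      rw [ZMod.val_cast_of_lt (hq ▸ Nat.mul_lt_mul_of_pos_left (Finset.mem_range.1 hj) hp0)]
      exact dvd_mul_right p j
    · rw [Nat.mul_div_cancel' (Finset.mem_filter.1 hk).2]
      exact ZMod.natCast_rightInverse k
    · rw [ZMod.val_cast_of_lt (hq ▸ Nat.mul_lt_mul_of_pos_left (Finset.mem_range.1 hj) hp0),
        Nat.mul_div_cancel_left _ hp0]
    · rw [Multiset.map_map, pw, hpow]
      refine congrArg Multiset.sum (Multiset.map_congr rfl fun z _ => ?_)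
      rw [Function.comp_apply, ← pow_mul, Nat.mul_div_cancel' (Finset.mem_filter.1 hk).2]

/-- An irreducible character not trivial on a normal subgroup `R` vanishes at `x` when `x R` lies in one class. -/
theorem irr_vanish {ψ : G → ℂ} (hψ : Cfsg.IsIrrCharacter G ψ) (R : Subgroup G) [R.Normal] {x : G}
    (hx : ∀ r ∈ R, IsConj x (x * r)) (hR : ¬ ∀ r ∈ R, ψ r = ψ 1) : ψ x = 0 := by
  classical
  have hcf := IsCharacter.isClassFunction (IsIrrCharacter.isCharacter hψ)
  obtain ⟨n, ρ, hρ, rfl⟩ := hψ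
  haveI := hρ
  haveI : Fintype R := Fintype.ofFinite R
  let T : Module.End ℂ (Fin n → ℂ) := ∑ r : R, ρ (r : G)
  have hT : ∀ g v, T (ρ g v) = ρ g (T v) := by
    intro g v
    simp only [T, LinearMap.sum_apply, map_sum]
    refine Fintype.sum_equiv ((MulAut.conjNormal g⁻¹ : MulAut R).toEquiv) _ _ fun r => ?_
    rw [← Module.End.mul_apply, ← map_mul, ← Module.End.mul_apply, ← map_mul]
    simp only [MulEquiv.toEquiv_eq_coe, EquivLike.coe_coe, MulEquiv.coe_toEquiv, MulAut.conjNormal_apply]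
    congr 2
    group
  obtain ⟨c, hc⟩ := schur_scalar ρ T hT
  have hc0 : c = 0 := by
    by_contra hc0
    refine hR fun r hr => ?_
    have h1 : T * ρ r = T := by
      simp only [T, Finset.sum_mul, ← map_mul]
      exact Fintype.sum_equiv (Equiv.mulRight (⟨r, hr⟩ : R)) _ _ fun s => rfl
    rw [hc] at h1
    have h2 : ρ r = 1 := by
      refine LinearMap.ext fun v => ?_
      have h3 := LinearMap.congr_fun h1 v
      simp only [Module.End.mul_apply, LinearMap.smul_apply, LinearMap.id_apply] at h3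
      exact smul_right_injective _ hc0 h3
    simp [Representation.character, h2]
  have h4 : ∑ r : R, ρ.character (x * r) = 0 := by
    simp only [Representation.character, map_mul, ← map_sum, ← Finset.mul_sum]
    rw [show (∑ r : R, ρ (r : G)) = T from rfl, hc, hc0, zero_smul, mul_zero, map_zero]
  have h5 : ∀ r : R, ρ.character (x * r) = ρ.character x :=
    fun r => ((Char.isClassFunction_iff).1 hcf _ _ (hx r r.2)).symm
  rw [Finset.sum_congr rfl (fun r _ => h5 r), Finset.sum_const, nsmul_eq_mul, mul_eq_zero] at h4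
  exact h4.resolve_left (Nat.cast_ne_zero.2 Fintype.card_ne_zero)

theorem re_bounds {χ : G → ℂ} (hχ : Cfsg.IsCharacter G χ) (g : G) :
    (χ g).re ≤ (χ 1).re ∧ -(χ 1).re ≤ (χ g).re := by
  obtain ⟨n, ρ, rfl⟩ := hχ
  have h1 := (Complex.abs_re_le_norm (ρ.character g)).trans (norm_char_le ρ g)
  rw [Representation.char_one, Complex.natCast_re]
  exact ⟨(abs_le.1 h1).2, by linarith [(abs_le.1 h1).1]⟩

/-- Bounds on the real parts when the cosets of `R` at `x` are single classes and `R` is the kernel of a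
retraction onto an abelian group. -/
theorem pair_bound {φ : G → ℂ} (hφ : Cfsg.IsCharacter G φ) (R : Subgroup G) [R.Normal] {x : G}
    (hx : ∀ r ∈ R, IsConj x (x * r)) :
    ∃ W : ℝ, W ≤ (φ 1).re ∧ (φ x).re ≤ W ∧ ∀ r ∈ R, 2 * W - (φ 1).re ≤ (φ r).re := by
  classical
  haveI : Fintype G := Fintype.ofFinite G
  obtain ⟨m, rfl⟩ := IsCharacter.exists_decomp hφ
  let T : IrrCharacter G → Prop := fun ψ => ∀ r ∈ R, (ψ : G → ℂ) r = (ψ : G → ℂ) 1
  have hre : ∀ g : G, ((∑ ψ, (m ψ : ℂ) • (ψ : G → ℂ)) g).re = ∑ ψ, (m ψ : ℝ) * ((ψ : G → ℂ) g).re := by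
    intro g
    simp [Finset.sum_apply, Complex.re_sum]
  have hd : ∀ ψ : IrrCharacter G, 0 ≤ ((ψ : G → ℂ) 1).re := fun ψ => by
    obtain ⟨d, -, hd⟩ := IsIrrCharacter.exists_degree ψ.2
    simp [hd]
  refine ⟨∑ ψ, (m ψ : ℝ) * if T ψ then ((ψ : G → ℂ) 1).re else 0, ?_, ?_, fun r hr => ?_⟩
  · rw [hre]
    refine Finset.sum_le_sum fun ψ _ => mul_le_mul_of_nonneg_left ?_ (Nat.cast_nonneg _)
    split_ifs
    · exact le_rfl
    · exact hd ψ
  · rw [hre]
    refine Finset.sum_le_sum fun ψ _ => mul_le_mul_of_nonneg_left ?_ (Nat.cast_nonneg _)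
    split_ifs with hT
    · exact (re_bounds (IsIrrCharacter.isCharacter ψ.2) x).1
    · rw [irr_vanish ψ.2 R hx hT, Complex.zero_re]
  · rw [hre, hre, Finset.mul_sum, ← Finset.sum_sub_distrib]
    refine Finset.sum_le_sum fun ψ _ => ?_
    rw [mul_left_comm, ← mul_sub]
    refine mul_le_mul_of_nonneg_left ?_ (Nat.cast_nonneg _)
    split_ifs with hT
    · rw [hT r hr]; linarith
    · linarith [(re_bounds (IsIrrCharacter.isCharacter ψ.2) r).2]

end Cfsg.Agent.XClosedP
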