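import Cfsg.Agent.Lib.ExtremelyClosed.AbelianOdd.Values
import Cfsg.Agent.Lib.ExtremelyClosed.AbelianOdd.CyclicSums
import Cfsg.Agent.Lib.Char.Galois
import Mathlib.Data.Nat.ChineseRemainder

/-!
The minimal counterexample with `H` cyclic and the normaliser moving its element of order `p`: a positivity
argument on the principal block.
-/

set_option autoImplicit false
set_option linter.style.haveILetI false
set_option linter.unusedSectionVars false

namespace Cfsg.Agent.XClosedP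

open Cfsg Cfsg.Agent.Char Cfsg.Agent.Blocks
open Cfsg.Agent.XClosedAb (cj mem_cj cj_cj cj_one mem_normalizer_cj card_cj)
open scoped ComplexConjugate

universe u

variable {G : Type u} [Group G] {p N : ℕ} [hp : Fact p.Prime] [Fintype G] [NeZero N] {H : Subgroup G}

/-- The cyclic case. -/
structure Cyc (p N : ℕ) (H : Subgroup G) (h : G) : Prop where
  crit : Crit p H
  odd : p ≠ 2
  gen : Subgroup.zpowers h = H
  ord : orderOf h = N
  pow : ∃ a, a ≠ 0 ∧ N = p ^ a
  moved : ∃ n e, n * h * n⁻¹ = h ^ e ∧ ¬ e ≡ 1 [MOD p]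

variable {h : G}

theorem Cyc.hN (c : Cyc p N H h) : h ^ N = 1 := c.ord ▸ pow_orderOf_eq_one h

theorem Cyc.dvd (c : Cyc p N H h) : p ∣ N := by
  obtain ⟨a, ha, he⟩ := c.pow; exact he ▸ dvd_pow_self p ha

theorem Cyc.mem_H (c : Cyc p N H h) : h ∈ H := c.gen ▸ Subgroup.mem_zpowers h

theorem Cyc.pw_mem (c : Cyc p N H h) (k : ZMod N) : pw h k ∈ H := pow_mem c.mem_H _

theorem Cyc.pw_eq_one (c : Cyc p N H h) {k : ZMod N} (hk : pw h k = 1) : k = 0 := by
  rw [pw, ← pow_zero h] at hk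
  have := pow_injOn_Iio_orderOf (x := h) (by rw [Set.mem_Iio, c.ord]; exact ZMod.val_lt k)
    (Set.mem_Iio.2 (orderOf_pos h)) hk
  exact (ZMod.val_eq_zero k).1 this

theorem Cyc.coprime (c : Cyc p N H h) {k : ℕ} (hk : ¬ p ∣ k) : k.Coprime N := by
  obtain ⟨a, -, he⟩ := c.pow
  rw [he]
  exact ((hp.out.coprime_iff_not_dvd.2 hk).symm).pow_right a

theorem Cyc.isUnit (c : Cyc p N H h) {k : ZMod N} (hk : ¬ p ∣ k.val) : IsUnit k := by
  rw [← ZMod.natCast_rightInverse k]
  exact (ZMod.isUnit_iff_coprime _ _).2 (c.coprime hk)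

theorem Cyc.orderOf_pw (c : Cyc p N H h) {k : ZMod N} (hk : ¬ p ∣ k.val) : orderOf (pw h k) = N := by
  rw [pw, Nat.Coprime.orderOf_pow (c.ord.symm ▸ (c.coprime hk).symm : (orderOf h).Coprime k.val), c.ord]

theorem Cyc.hom_eq_one (c : Cyc p N H h) (f : G →* ℂˣ) : f = 1 := by
  obtain ⟨n, e, hne, he⟩ := c.moved
  have h1 : f h ^ e = f h ^ 1 := by
    have h2 := congrArg f hne
    rw [map_mul, map_mul, map_inv, map_pow, mul_comm (f n), mul_inv_cancel_right] at h2
    rw [← h2, pow_one]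
  have hfh : f h = 1 := by
    rw [← orderOf_eq_one_iff]
    obtain ⟨a, -, hNa⟩ := c.pow
    obtain ⟨i, -, hi⟩ := (Nat.dvd_prime_pow hp.out).1
      ((orderOf_map_dvd f h).trans (dvd_of_eq (c.ord.trans hNa)))
    rcases i with _ | i
    · exact hi
    · exact absurd ((pow_eq_pow_iff_modEq.1 h1).of_dvd (hi ▸ dvd_pow_self p (Nat.succ_ne_zero i))) he
  refine MonoidHom.ext fun g => ?_
  have hle : Subgroup.normalClosure (H : Set G) ≤ f.ker := Subgroup.normalClosure_le_normal fun x hx => by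
    rw [← c.gen] at hx
    obtain ⟨i, rfl⟩ := Subgroup.mem_zpowers_iff.1 hx
    simp [hfh]
  exact MonoidHom.mem_ker.1 (hle (c.crit.top ▸ Subgroup.mem_top g))

theorem Cyc.eq_principal_of_degree (c : Cyc p N H h) {χ : IrrCharacter G} (h1 : (χ : G → ℂ) 1 = 1) :
    χ = Char.principal G := by
  obtain ⟨f, hf⟩ := exists_hom_of_degree_one (irr_isCharacter χ) h1
  refine Subtype.ext ?_
  rw [hf, c.hom_eq_one f]
  simp [Char.principal]

/-- A character with kernel covering `G` together with `H` is principal. -/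
theorem Cyc.eq_principal_of_kernel (c : Cyc p N H h) {χ : IrrCharacter G} (K : Subgroup G) [K.Normal]
    (hK : ∀ g, g ∈ K → (χ : G → ℂ) g = (χ : G → ℂ) 1) (htop : K ⊔ H = ⊤) : χ = Char.principal G := by
  refine c.eq_principal_of_degree (degree_one_of_commutators χ.2 fun a b => hK _ ?_)
  obtain ⟨k, hk, a, ha, rfl⟩ := Subgroup.mem_sup_of_normal_left.1 (htop ▸ Subgroup.mem_top a : a ∈ K ⊔ H)
  obtain ⟨l, hl, b, hb, rfl⟩ := Subgroup.mem_sup_of_normal_left.1 (htop ▸ Subgroup.mem_top b : b ∈ K ⊔ H)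
  rw [← QuotientGroup.eq_one_iff]
  simp only [QuotientGroup.mk_mul, QuotientGroup.mk_inv, (QuotientGroup.eq_one_iff k).2 hk,
    (QuotientGroup.eq_one_iff l).2 hl, one_mul]
  rw [← QuotientGroup.mk_inv, ← QuotientGroup.mk_inv, ← QuotientGroup.mk_mul, ← QuotientGroup.mk_mul,
    ← QuotientGroup.mk_mul, c.crit.hyp.2.1 a ha b hb, mul_inv_cancel_right, mul_inv_cancel,
    QuotientGroup.mk_one]

/-- The value on a power of `h`. -/
noncomputable def val (χ : IrrCharacter G) (h : G) (k : ZMod N) : ℂ := (χ : G → ℂ) (pw h k)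

/-- The generators. -/
def gens (p N : ℕ) [NeZero N] : Finset (ZMod N) := Finset.univ.filter fun k => ¬ p ∣ k.val

/-- The sum over the generators. -/
noncomputable def genSum (p : ℕ) (χ : IrrCharacter G) (h : G) : ℂ := ∑ k ∈ gens p N, val χ h k

/-- The sum over the generators congruent to a given one modulo `p`. -/
noncomputable def classOf (p : ℕ) (χ : IrrCharacter G) (h : G) (c : ZMod N) : ℂ :=
  ∑ k ∈ Finset.univ.filter (fun k : ZMod N => k.val ≡ c.val [MOD p]), val χ h k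

theorem val_mod (hdvd : p ∣ N) (x y : ZMod N) : x.val ≡ y.val [MOD p] ↔
    ZMod.castHom hdvd (ZMod p) x = ZMod.castHom hdvd (ZMod p) y := by
  conv_rhs => rw [← ZMod.natCast_rightInverse x, ← ZMod.natCast_rightInverse y, map_natCast, map_natCast]
  exact (ZMod.natCast_eq_natCast_iff _ _ _).symm

theorem dvd_val_iff (hdvd : p ∣ N) (x : ZMod N) : p ∣ x.val ↔ ZMod.castHom hdvd (ZMod p) x = 0 := by
  conv_rhs => rw [← ZMod.natCast_rightInverse x, map_natCast]
  exact (ZMod.natCast_eq_zero_iff _ _).symm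

theorem mem_gens {k : ZMod N} : k ∈ gens p N ↔ ¬ p ∣ k.val := by simp [gens]

theorem mem_gens_mul (hdvd : p ∣ N) {u k : ZMod N} (hu : u ∈ gens p N) : u * k ∈ gens p N ↔ k ∈ gens p N := by
  rw [mem_gens, mem_gens, dvd_val_iff hdvd, dvd_val_iff hdvd, map_mul, mul_eq_zero]
  exact not_congr ⟨fun h => h.resolve_left fun e => mem_gens.1 hu ((dvd_val_iff hdvd u).2 e), Or.inr⟩

theorem one_mem_gens (hdvd : p ∣ N) : (1 : ZMod N) ∈ gens p N := by
  rw [mem_gens, dvd_val_iff hdvd, map_one]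
  exact one_ne_zero

variable {M : Ideal AlgInt} [M.IsPrime]

/-- The product of the sums of two generators. -/
theorem identity (c : Cyc p N H h) (hM : IsPModular p M) :
    ∃ s : G → G, (∀ g, s g ∈ H ⊔ cj g H ∧ ¬ p ∣ orderOf (s g)) ∧
      ∀ χ ∈ principalBlock M G, (Nat.card G : ℂ) * (val χ h (1 : ZMod N) * genSum (N := N) p χ h) =
        (χ : G → ℂ) 1 * ((Nat.card G : ℂ) * ((∑ k : ZMod N, val χ h k) - classOf p χ h (1 : ZMod N) -
          (χ : G → ℂ) 1) + ∑ g, (χ : G → ℂ) (s g)) := by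
  classical
  have hN := c.hN
  have hdvd := c.dvd
  have hp1 : (pw h (1 : ZMod N)) ∈ H := c.pw_mem 1
  have key : ∀ g : G, ∃ i₀ : ZMod N, pw h (1 : ZMod N) * (g * pw h i₀ * g⁻¹) ∈ H ⊔ cj g H ∧
      ¬ p ∣ orderOf (pw h (1 : ZMod N) * (g * pw h i₀ * g⁻¹)) ∧
      ∀ χ ∈ principalBlock M G,
        ∑ i ∈ gens p N, (χ : G → ℂ) (pw h (1 : ZMod N) * (g * pw h i * g⁻¹)) =
          ((∑ k : ZMod N, val χ h k) - classOf p χ h (1 : ZMod N) - (χ : G → ℂ) 1) +
            (χ : G → ℂ) (pw h (1 : ZMod N) * (g * pw h i₀ * g⁻¹)) := by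
    intro g
    obtain ⟨π, hπA, hπid, hodd, -, -, -⟩ := c.crit.hyp.pair g
    have hy : ∀ i : ZMod N, g * pw h i * g⁻¹ ∈ H ⊔ cj g H := fun i =>
      Subgroup.mem_sup_right (mem_cj.2 (by simpa [mul_assoc] using c.pw_mem i))
    let y : ↥(H ⊔ cj g H) := ⟨g * pw h (1 : ZMod N) * g⁻¹, hy 1⟩
    obtain ⟨j, hj⟩ : ∃ j : ℕ, h ^ j = π y :=
      mem_powers_iff_mem_zpowers.2 (le_of_eq c.gen.symm (hπA y))
    set u : ZMod N := (j : ZMod N) with hu
    have hπu : π y = pw h u := by rw [hu, pw_natCast hN, hj]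
    have hπi : ∀ i : ZMod N, π ⟨_, hy i⟩ = pw h (u * i) := by
      intro i
      have e : (⟨_, hy i⟩ : ↥(H ⊔ cj g H)) = y ^ i.val := Subtype.ext (by
        show g * pw h i * g⁻¹ = (g * pw h (1 : ZMod N) * g⁻¹) ^ i.val
        rw [conj_pow, ← pw_mul hN, one_mul])
      rw [e, map_pow, hπu, ← pw_mul hN]
    have hue : u ∈ gens p N := by
      rw [mem_gens]
      intro hd
      have hpu : pw h (u * ((N / p : ℕ) : ZMod N)) = 1 := by
        obtain ⟨q, hq⟩ := hd
        rw [← ZMod.natCast_rightInverse u, ← Nat.cast_mul, pw_natCast hN, hq, mul_comm p q, mul_assoc,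
          Nat.mul_div_cancel' hdvd, mul_comm, pow_mul, hN, one_pow]
      have h2 := (hodd ⟨_, hy ((N / p : ℕ) : ZMod N)⟩).2 ((hπi _).trans hpu)
      have h3 := eq_one_of_pgroup (c.crit.hyp.1.map (MulAut.conj g).toMonoidHom)
        (mem_cj.2 (show g⁻¹ * (g * pw h ((N / p : ℕ) : ZMod N) * g⁻¹) * g ∈ H by
          simpa [mul_assoc] using c.pw_mem _)) h2
      rw [conj_eq_one_iff, pw_natCast hN, ← orderOf_dvd_iff_pow_eq_one, c.ord] at h3
      have h4 := Nat.le_of_dvd (Nat.div_pos (Nat.le_of_dvd (NeZero.pos N) hdvd) hp.out.pos) h3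
      exact absurd h4 (not_le.2 (Nat.div_lt_self (NeZero.pos N) hp.out.one_lt))
    obtain ⟨v, hv⟩ := c.isUnit (mem_gens.1 hue)
    let x : ↥(H ⊔ cj g H) := ⟨pw h (1 : ZMod N), Subgroup.mem_sup_left hp1⟩
    have hπs : ∀ i : ZMod N, π (x * ⟨_, hy i⟩) = pw h (1 + u * i) := fun i => by
      rw [map_mul, hπid x hp1, hπi, pw_add hN]
    set i₀ : ZMod N := -((v⁻¹ : (ZMod N)ˣ) : ZMod N) with hi₀
    have hui : 1 + u * i₀ = 0 := by
      rw [hi₀, ← hv, mul_neg, Units.mul_inv, add_neg_cancel]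
    refine ⟨i₀, mul_mem (Subgroup.mem_sup_left hp1) (hy _),
      (hodd (x * ⟨_, hy i₀⟩)).2 (by rw [hπs, hui, pw_zero]), fun χ hχ => ?_⟩
    have hi₀mem : i₀ ∈ gens p N := by
      refine (mem_gens_mul hdvd hue).1 ?_
      rw [eq_neg_of_add_eq_zero_right hui, mem_gens, dvd_val_iff hdvd, map_neg, map_one, neg_eq_zero]
      exact one_ne_zero
    have hval : ∀ i : ZMod N, i ≠ i₀ →
        (χ : G → ℂ) (pw h (1 : ZMod N) * (g * pw h i * g⁻¹)) = val χ h (1 + u * i) := by
      intro i hi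
      have hne : pw h (1 + u * i) ≠ 1 := fun e => hi (by
        have h1 := c.pw_eq_one e
        rw [← hui, add_right_inj, ← hv, Units.mul_right_inj] at h1
        exact h1)
      refine value_eq c.crit hM hχ Mem.self ⟨g, rfl⟩ (mul_mem (Subgroup.mem_sup_left hp1) (hy i)) (c.pw_mem _)
        hne ?_
      refine (hodd ((⟨_, Subgroup.mem_sup_left (c.pw_mem (1 + u * i))⟩ : ↥(H ⊔ cj g H))⁻¹ *
        (x * ⟨_, hy i⟩))).2 ?_
      rw [map_mul, map_inv, hπs, hπid _ (c.pw_mem _), inv_mul_cancel]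
    have h0 : val χ h (1 + u * i₀) = (χ : G → ℂ) 1 := by rw [hui, val, pw_zero]
    rw [← Finset.add_sum_erase _ _ hi₀mem, Finset.sum_congr rfl (fun i hi => hval i (Finset.mem_erase.1 hi).1),
      Finset.sum_erase_eq_sub hi₀mem, h0]
    have hre : ∑ i ∈ gens p N, val χ h (1 + u * i) =
        (∑ k : ZMod N, val χ h k) - classOf p χ h (1 : ZMod N) := by
      rw [eq_sub_iff_add_eq', classOf, ← Finset.sum_filter_add_sum_filter_not Finset.univ
        (fun k : ZMod N => k.val ≡ (1 : ZMod N).val [MOD p])]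
      congr 1
      refine Finset.sum_nbij' (fun i => 1 + u * i) (fun k => ((v⁻¹ : (ZMod N)ˣ) : ZMod N) * (k - 1))
        (fun i hi => ?_) (fun k hk => ?_) (fun i _ => ?_) (fun k _ => ?_) (fun i _ => rfl)
      · rw [Finset.mem_filter, val_mod hdvd, map_add, add_eq_left, ← dvd_val_iff hdvd]
        exact ⟨Finset.mem_univ _, mem_gens.1 ((mem_gens_mul hdvd hue).2 hi)⟩
      · rw [Finset.mem_filter, val_mod hdvd] at hk
        refine (mem_gens_mul hdvd hue).1 ?_
        rw [← hv, Units.mul_inv_cancel_left, mem_gens, dvd_val_iff hdvd, map_sub, sub_eq_zero]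
        exact hk.2
      · rw [add_sub_cancel_left, ← hv, Units.inv_mul_cancel_left]
      · rw [← hv, Units.mul_inv_cancel_left, add_sub_cancel]
    rw [hre]
    ring
  choose i₀ hs hreg hsum using key
  refine ⟨fun g => pw h (1 : ZMod N) * (g * pw h (i₀ g) * g⁻¹), fun g => ⟨hs g, hreg g⟩, fun χ hχ => ?_⟩
  have hdeg := irr_one_ne_zero χ
  have e1 : ∀ i : ZMod N, ∑ g : G, (χ : G → ℂ) (pw h (1 : ZMod N) * (g * pw h i * g⁻¹)) =
      (Nat.card G : ℂ) * val χ h i * val χ h (1 : ZMod N) / (χ : G → ℂ) 1 := by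
    intro i
    rw [val, val, ← irr_sum_conj_mul χ (pw h i) (pw h (1 : ZMod N))]
    refine Fintype.sum_equiv (Equiv.inv G) _ _ fun g => ?_
    rw [Equiv.inv_apply, inv_inv]
    conv_rhs => rw [← conj_value χ (pw h (1 : ZMod N))]
    congr 1
    group
  have e2 : ∑ g : G, ∑ i ∈ gens p N, (χ : G → ℂ) (pw h (1 : ZMod N) * (g * pw h i * g⁻¹)) =
      (Nat.card G : ℂ) * (val χ h (1 : ZMod N) * genSum (N := N) p χ h) / (χ : G → ℂ) 1 := by
    rw [Finset.sum_comm, Finset.sum_congr rfl (fun i _ => e1 i), genSum, Finset.mul_sum, Finset.mul_sum,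
      Finset.sum_div]
    exact Finset.sum_congr rfl fun i _ => by ring
  rw [Finset.sum_congr rfl (fun g _ => hsum g χ hχ), Finset.sum_add_distrib, Finset.sum_const, Finset.card_univ,
    ← Nat.card_eq_fintype_card, nsmul_eq_mul, eq_div_iff hdeg] at e2
  rw [← e2, mul_comm]

/-- Galois invariance of the mixed sum. -/
theorem invariance (c : Cyc p N H h) (hM : IsPModular p M) {χ : IrrCharacter G} (hχ : χ ∈ principalBlock M G)
    {k : ZMod N} (hk : k ∈ gens p N) :
    val χ h k * genSum (N := N) p χ h + (χ : G → ℂ) 1 * classOf p χ h k =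
      val χ h (1 : ZMod N) * genSum (N := N) p χ h + (χ : G → ℂ) 1 * classOf p χ h (1 : ZMod N) := by
  classical
  obtain ⟨s, hs, hid⟩ := identity c hM
  have e := hid χ hχ
  set b := (Nat.card G).factorization p
  set m := Nat.card G / p ^ b
  have hbm : p ^ b * m = Nat.card G := Nat.ordProj_mul_ordCompl_eq_self _ p
  have hpm : ¬ p ∣ m := Nat.not_dvd_ordCompl hp.out Nat.card_pos.ne'
  have hco : (p ^ b).Coprime m := (hp.out.coprime_iff_not_dvd.2 hpm).pow_left b
  obtain ⟨l, hl1, hl2⟩ := Nat.chineseRemainder hco k.val 1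
  obtain ⟨a, ha, hNa⟩ := c.pow
  have hNb : N ∣ p ^ b := by
    rw [hNa]
    refine pow_dvd_pow p ((hp.out.pow_dvd_iff_le_factorization Nat.card_pos.ne').1 ?_)
    rw [← hNa, ← c.ord]
    exact orderOf_dvd_natCard h
  have hlN : l ≡ k.val [MOD N] := hl1.of_dvd hNb
  have hlp : ¬ p ∣ l := fun hd => mem_gens.1 hk (((hlN.of_dvd c.dvd).dvd_iff dvd_rfl).1 hd)
  have hlG : l.Coprime (Nat.card G) := by
    rw [← hbm]
    refine Nat.Coprime.mul_right ((hp.out.coprime_iff_not_dvd.2 hlp).symm.pow_right b) ?_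
    unfold Nat.Coprime
    rw [hl2.gcd_eq, Nat.gcd_one_left]
  obtain ⟨σ, hσ⟩ := CharGalois.exists_galoisAut Nat.card_pos.ne' hlG
  have hmap : ∀ g : G, σ ((χ : G → ℂ) g) = (χ : G → ℂ) (g ^ l) := fun g =>
    CharGalois.map_char (irr_isCharacter χ) σ.toRingHom (k := l) hσ g
  have hreg : ∀ g, σ ((χ : G → ℂ) (s g)) = (χ : G → ℂ) (s g) := by
    intro g
    rw [hmap]
    have h1 : orderOf (s g) ∣ m := by
      refine (Nat.Coprime.dvd_mul_left ?_).1 (hbm ▸ orderOf_dvd_natCard (s g))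
      exact ((hp.out.coprime_iff_not_dvd.2 (hs g).2).symm).pow_right b
    rw [pow_eq_pow_iff_modEq.2 (hl2.of_dvd h1), pow_one]
  have hval : ∀ i : ZMod N, σ (val χ h i) = val χ h (i * k) := by
    intro i
    rw [val, val, hmap, pw_mul c.hN, pow_eq_pow_iff_modEq.2 (hlN.of_dvd (?_ : orderOf (pw h i) ∣ N))]
    refine dvd_trans ?_ (dvd_of_eq c.ord)
    rw [pw]
    exact orderOf_pow_dvd _
  have hd : σ ((χ : G → ℂ) 1) = (χ : G → ℂ) 1 := by rw [hmap, one_pow]
  obtain ⟨v, hv⟩ := c.isUnit (mem_gens.1 hk)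
  have hE : σ (genSum (N := N) p χ h) = genSum (N := N) p χ h := by
    rw [genSum, map_sum, Finset.sum_congr rfl (fun i _ => hval i)]
    refine Finset.sum_equiv (v.mulRight) (fun i => ?_) (fun i _ => ?_)
    · simp only [Units.mulRight_apply, hv]
      rw [mul_comm i, mem_gens_mul c.dvd hk]
    · rw [Units.mulRight_apply, hv]
  have hT : σ (∑ i : ZMod N, val χ h i) = ∑ i : ZMod N, val χ h i := by
    rw [map_sum, Finset.sum_congr rfl (fun i _ => hval i)]
    exact Fintype.sum_equiv v.mulRight _ _ fun i => by rw [Units.mulRight_apply, hv]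
  have hC : σ (classOf p χ h (1 : ZMod N)) = classOf p χ h k := by
    rw [classOf, classOf, map_sum, Finset.sum_congr rfl (fun i _ => hval i)]
    refine Finset.sum_equiv (v.mulRight) (fun i => ?_) (fun i _ => ?_)
    · simp only [Finset.mem_filter, Finset.mem_univ, true_and, val_mod c.dvd, Units.mulRight_apply, hv, map_mul,
        map_one]
      refine ⟨fun e => by rw [e, one_mul], fun e => ?_⟩
      exact mul_eq_right₀ (fun e0 => mem_gens.1 hk ((dvd_val_iff c.dvd k).2 e0)) |>.1 e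
    · rw [Units.mulRight_apply, hv]
  have e' := congrArg σ e
  simp only [map_mul, map_natCast, map_add, map_sub, map_sum σ (fun g => (χ : G → ℂ) (s g)), hreg, hd, hE, hT,
    hC, hval (1 : ZMod N), one_mul] at e'
  refine mul_left_cancel₀ (Nat.cast_ne_zero.2 (Nat.card_pos (α := G)).ne') ?_
  linear_combination e' - e

/-- The weighted square sum of a character. -/
noncomputable def weight (p : ℕ) (χ : IrrCharacter G) (h : G) : ℂ :=
  (∑ k ∈ gens p N, conj (val χ h k) * val χ h k) * genSum (N := N) p χ h / (χ : G → ℂ) 1 -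
    conj (genSum (N := N) p χ h) * genSum (N := N) p χ h +
    ∑ k ∈ gens p N, conj (val χ h k) * classOf p χ h k

theorem sum_weight (c : Cyc p N H h) (hM : IsPModular p M) [DecidablePred (· ∈ principalBlock M G)] :
    ∑ χ ∈ Finset.univ.filter (· ∈ principalBlock M G), weight (N := N) p χ h = 0 := by
  classical
  set B := Finset.univ.filter (· ∈ principalBlock M G)
  obtain ⟨s, hs, hid⟩ := identity c hM
  set Z := (Finset.univ.filter fun i : ZMod N => p ∣ i.val).erase 0
  have key : ∀ χ ∈ B, weight (N := N) p χ h =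
      ∑ k ∈ gens p N, (conj (val χ h k) * ∑ i ∈ Z, val χ h i +
        (Nat.card G : ℂ)⁻¹ * ∑ g, (χ : G → ℂ) (s g) * conj (val χ h k)) := by
    intro χ hχ
    have hχ' := (Finset.mem_filter.1 hχ).2
    have e := hid χ hχ'
    have hd := irr_one_ne_zero χ
    have hG : (Nat.card G : ℂ) ≠ 0 := Nat.cast_ne_zero.2 (Nat.card_pos (α := G)).ne'
    have hT : (∑ i : ZMod N, val χ h i) - (χ : G → ℂ) 1 = genSum (N := N) p χ h + ∑ i ∈ Z, val χ h i := by
      rw [← Finset.sum_filter_add_sum_filter_not Finset.univ (fun i : ZMod N => p ∣ i.val),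
        Finset.sum_erase_eq_sub (by simp : (0 : ZMod N) ∈ Finset.univ.filter fun i : ZMod N => p ∣ i.val),
        genSum, gens, val, pw_zero]
      ring
    have hk : ∀ k ∈ gens p N, val χ h k * genSum (N := N) p χ h / (χ : G → ℂ) 1 + classOf p χ h k =
        genSum (N := N) p χ h + ∑ i ∈ Z, val χ h i + (Nat.card G : ℂ)⁻¹ * ∑ g, (χ : G → ℂ) (s g) := by
      intro k hk
      have h2 := invariance c hM hχ' hk
      rw [← hT]
      field_simp
      linear_combination (Nat.card G : ℂ) * h2 + e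
    calc weight (N := N) p χ h
        = ∑ k ∈ gens p N, conj (val χ h k) * (val χ h k * genSum (N := N) p χ h / (χ : G → ℂ) 1 +
            classOf p χ h k - genSum (N := N) p χ h) := by
          simp only [mul_sub, mul_add, Finset.sum_sub_distrib, Finset.sum_add_distrib, ← Finset.sum_mul, weight,
            Finset.sum_div, Finset.mul_sum]
          rw [show conj (genSum (N := N) p χ h) = ∑ k ∈ gens p N, conj (val χ h k) by rw [genSum, map_sum]]
          rw [Finset.sum_mul, Finset.sum_mul, Finset.sum_div]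
          simp only [mul_div_assoc, mul_assoc]
          ring
      _ = _ := Finset.sum_congr rfl fun k hk' => by
          rw [hk k hk', ← Finset.sum_mul]
          ring
  rw [Finset.sum_congr rfl key, Finset.sum_comm]
  refine Finset.sum_eq_zero fun k hk => ?_
  have hk0 : p ∣ orderOf (pw h k) := by rw [c.orderOf_pw (mem_gens.1 hk)]; exact c.dvd
  have hkp : ∃ i, orderOf (pw h k) = p ^ i := by
    obtain ⟨a, -, ha⟩ := c.pow; exact ⟨a, by rw [c.orderOf_pw (mem_gens.1 hk), ha]⟩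
  rw [Finset.sum_add_distrib]
  refine (congrArg₂ (· + ·) ?_ ?_).trans (add_zero 0)
  · simp only [Finset.mul_sum]
    rw [Finset.sum_comm]
    refine Finset.sum_eq_zero fun i hi => ?_
    obtain ⟨hi0, hi1⟩ := Finset.mem_erase.1 hi
    have hiq : pw h i ^ (N / p) = 1 := by
      obtain ⟨q, hq⟩ := (Finset.mem_filter.1 hi1).2
      rw [pw, ← pow_mul, hq, mul_comm p q, mul_assoc, Nat.mul_div_cancel' c.dvd, mul_comm, pow_mul, c.hN, one_pow]
    obtain ⟨a, -, ha⟩ := c.pow
    have hip : ∃ j, orderOf (pw h i) = p ^ j := by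
      obtain ⟨j, -, hj⟩ := (Nat.dvd_prime_pow hp.out).1
        (orderOf_dvd_of_pow_eq_one (show pw h i ^ p ^ a = 1 by
          rw [← ha, pw, ← pow_mul, mul_comm, pow_mul, c.hN, one_pow]))
      exact ⟨j, hj⟩
    have h1 := blockPair_eq_zero_of_not_isConj hM (isPBlock_principalBlock M G) (u := (1 : G)) (w := (1 : G))
      hip hkp (Commute.one_right _) (Commute.one_right _) (by simpa using hp.out.ne_one)
      (by simpa using hp.out.ne_one) (fun hconj => ?_)
    · rw [mul_one, mul_one] at h1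
      unfold blockPair at h1
      rw [← h1]
      refine Finset.sum_congr (by ext; simp [B]) fun χ _ => mul_comm _ _
    · obtain ⟨d, hd⟩ := isConj_iff.1 hconj
      have h2 := orderOf_dvd_of_pow_eq_one hiq
      rw [← MulEquiv.orderOf_eq (MulAut.conj d) (pw h i), MulAut.conj_apply, hd, c.orderOf_pw (mem_gens.1 hk)] at h2
      have h4 := Nat.le_of_dvd (Nat.div_pos (Nat.le_of_dvd (NeZero.pos N) c.dvd) hp.out.pos) h2
      exact absurd h4 (not_le.2 (Nat.div_lt_self (NeZero.pos N) hp.out.one_lt))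
  · rw [← Finset.mul_sum, Finset.sum_comm, Finset.sum_eq_zero (fun g _ => ?_), mul_zero]
    have h1 := blockPair_regular_singular hM (isPBlock_principalBlock M G) (hs g).2 hk0
    unfold blockPair at h1
    rw [← h1]
    exact Finset.sum_congr (by ext; simp [B]) fun χ _ => rfl

end Cfsg.Agent.XClosedP
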