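import Cfsg.Agent.Lib.ExtremelyClosed.AbelianOdd.CaseO

/-!
The sign of the weight of each principal block character in the cyclic case, and the contradiction.
-/

set_option autoImplicit false
set_option linter.style.haveILetI false
set_option linter.unusedSectionVars false

namespace Cfsg.Agent.XClosedP

open Cfsg Cfsg.Agent.Char Cfsg.Agent.Blocks
open Cfsg.Agent.XClosedAb (cj mem_cj cj_cj cj_one mem_normalizer_cj card_cj)
open scoped ComplexConjugate

universe u

variable {G : Type u} [Group G] {p N : ℕ} [hp : Fact p.Prime] [Fintype G] [NeZero N] {H : Subgroup G} {h : G}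
  {M : Ideal AlgInt} [M.IsPrime]

theorem card_gens (hdvd : p ∣ N) : ((gens p N).card : ℂ) = ((p : ℂ) - 1) * ((N / p : ℕ) : ℂ) := by
  classical
  obtain ⟨D, D', d, h1, hDD, hDd, hT, hZ⟩ := exists_fix (G := Unit) (χ := fun _ => (1 : ℂ))
    (isCharacter_one) (h := ()) (N := N) (p := p) (one_pow N) hdvd
  have hd : d = 1 := by exact_mod_cast h1.symm
  simp only [Finset.sum_const, nsmul_one, Finset.card_univ, ZMod.card] at hT hZ
  have hD : D = 1 := by
    have h2 : N * D = N * 1 := by rw [mul_one]; exact_mod_cast hT.symm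
    exact Nat.eq_of_mul_eq_mul_left (NeZero.pos N) h2
  have hD' : D' = 1 := by omega
  rw [hD', Nat.cast_one, mul_one] at hZ
  have h3 := Finset.card_filter_add_card_filter_not (s := (Finset.univ : Finset (ZMod N))) (fun k => p ∣ k.val)
  rw [Finset.card_univ, ZMod.card] at h3
  have h4 : ((Finset.univ.filter fun k : ZMod N => p ∣ k.val).card : ℂ) + ((gens p N).card : ℂ) = (p : ℂ) * ((N / p : ℕ) : ℂ) := by
    rw [← Nat.cast_mul, Nat.mul_div_cancel' hdvd, gens]
    exact_mod_cast h3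
  rw [hZ] at h4
  linear_combination h4

theorem card_fiber (hdvd : p ∣ N) (c : ZMod N) :
    (Finset.univ.filter fun k : ZMod N => k.val ≡ c.val [MOD p]).card =
      (Finset.univ.filter fun k : ZMod N => p ∣ k.val).card := by
  classical
  refine Finset.card_bij' (fun k _ => k - c) (fun k _ => k + c) (fun k hk => ?_) (fun k hk => ?_)
    (fun k _ => sub_add_cancel k c) (fun k _ => add_sub_cancel_right k c)
  · simp only [Finset.mem_filter, Finset.mem_univ, true_and, val_mod hdvd, dvd_val_iff hdvd, map_sub,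
      sub_eq_zero] at hk ⊢
    exact hk
  · simp only [Finset.mem_filter, Finset.mem_univ, true_and, val_mod hdvd, dvd_val_iff hdvd, map_add,
      add_eq_right] at hk ⊢
    exact hk

theorem card_multiples (hdvd : p ∣ N) :
    (((Finset.univ.filter fun k : ZMod N => p ∣ k.val).card : ℕ) : ℂ) = ((N / p : ℕ) : ℂ) := by
  classical
  have h3 := Finset.card_filter_add_card_filter_not (s := (Finset.univ : Finset (ZMod N))) (fun k => p ∣ k.val)
  rw [Finset.card_univ, ZMod.card] at h3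
  have h4 : ((Finset.univ.filter fun k : ZMod N => p ∣ k.val).card : ℂ) + ((gens p N).card : ℂ) = (p : ℂ) * ((N / p : ℕ) : ℂ) := by
    rw [← Nat.cast_mul, Nat.mul_div_cancel' hdvd, gens]
    exact_mod_cast h3
  rw [card_gens hdvd] at h4
  linear_combination h4

theorem mod_mem_gens (hdvd : p ∣ N) {k l : ZMod N} (hk : k ∈ gens p N) (h : l.val ≡ k.val [MOD p]) :
    l ∈ gens p N := by
  rw [mem_gens] at hk ⊢
  exact fun hd => hk ((h.dvd_iff dvd_rfl).1 hd)

theorem sum_classOf (hdvd : p ∣ N) (χ : IrrCharacter G) :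
    ∑ k ∈ gens p N, classOf (N := N) p χ h k = ((N / p : ℕ) : ℂ) * genSum (N := N) p χ h := by
  classical
  simp only [classOf]
  rw [Finset.sum_comm' (t' := gens p N)
    (s' := fun l : ZMod N => Finset.univ.filter fun k : ZMod N => k.val ≡ l.val [MOD p])]
  · rw [genSum, Finset.mul_sum]
    refine Finset.sum_congr rfl fun l _ => ?_
    rw [Finset.sum_const, nsmul_eq_mul, card_fiber hdvd, card_multiples hdvd]
  · intro k l
    simp only [Finset.mem_filter, Finset.mem_univ, true_and]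
    exact ⟨fun ⟨hk, hl⟩ => ⟨hl.symm, mod_mem_gens hdvd hk hl⟩,
      fun ⟨hk, hl⟩ => ⟨mod_mem_gens hdvd hl hk, hk.symm⟩⟩

/-- On a pair subgroup the coset of the kernel at a generator is one class. -/
theorem coset_class (c : Cyc p N H h) (g : G) :
    ∃ (π : ↥(H ⊔ cj g H) →* G) (o : ↥(H ⊔ cj g H)), π o = 1 ∧ cj g H = cj (o : G) H ∧
      (∀ x : ↥(H ⊔ cj g H), ¬ p ∣ orderOf (x : G) ↔ π x = 1) ∧
      ∀ k : ZMod N, k ∈ gens p N → ∀ r ∈ π.ker,
        IsConj (⟨pw h k, Subgroup.mem_sup_left (c.pw_mem k)⟩ : ↥(H ⊔ cj g H))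
          (⟨pw h k, Subgroup.mem_sup_left (c.pw_mem k)⟩ * r) := by
  classical
  obtain ⟨π, hπA, hπid, hodd, ⟨o, ho, he⟩, -, -⟩ := c.crit.hyp.pair g
  refine ⟨π, o, ho, he, hodd, fun k hk r hr => ?_⟩
  set x : ↥(H ⊔ cj g H) := ⟨pw h k, Subgroup.mem_sup_left (c.pw_mem k)⟩
  let F : π.ker → π.ker := fun q => ⟨x⁻¹ * ((q : ↥(H ⊔ cj g H)) * x * (q : ↥(H ⊔ cj g H))⁻¹), by
    rw [MonoidHom.mem_ker, map_mul, map_mul, map_mul, map_inv, map_inv, MonoidHom.mem_ker.1 q.2, one_mul,
      inv_one, mul_one, inv_mul_cancel]⟩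
  have hF : Function.Injective F := by
    intro q q' e
    have e1 := congrArg Subtype.val e
    simp only [F, mul_right_inj] at e1
    set z := (q' : ↥(H ⊔ cj g H))⁻¹ * q
    have hzx : z * x * z⁻¹ = x := by
      calc z * x * z⁻¹ = (q' : ↥(H ⊔ cj g H))⁻¹ * ((q : ↥(H ⊔ cj g H)) * x * (q : ↥(H ⊔ cj g H))⁻¹) *
            (q' : ↥(H ⊔ cj g H)) := by simp [z, mul_assoc]
        _ = x := by rw [e1]; group
    have hzH : (z : G) ∈ H := by
      refine c.crit.hyp.2.2 g _ z.2 ?_
      have hgen : Subgroup.zpowers (pw h k) = H := by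
        refine Subgroup.eq_of_le_of_card_ge (Subgroup.zpowers_le.2 (c.pw_mem k)) (le_of_eq ?_)
        rw [Nat.card_zpowers, c.orderOf_pw (mem_gens.1 hk), ← c.ord, ← Nat.card_zpowers h, c.gen]
      have hzc : (z : G) * pw h k = pw h k * z := by
        have := congrArg Subtype.val (mul_inv_eq_iff_eq_mul.1 hzx)
        exact this
      refine Subgroup.centralizer_le_normalizer _ (Subgroup.mem_centralizer_iff.2 fun w hw => ?_)
      rw [SetLike.mem_coe, ← hgen] at hw
      obtain ⟨i, rfl⟩ := Subgroup.mem_zpowers_iff.1 hw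
      exact ((show Commute (z : G) (pw h k) from hzc).zpow_right i).eq.symm
    have hz1 : π z = 1 := by
      simp [z, MonoidHom.mem_ker.1 q.2, MonoidHom.mem_ker.1 q'.2]
    rw [hπid z hzH, ← Subgroup.coe_one (H ⊔ cj g H), Subtype.coe_inj] at hz1
    exact Subtype.ext (inv_mul_eq_one.1 hz1).symm
  obtain ⟨q, hq⟩ := Finite.injective_iff_surjective.1 hF ⟨r, hr⟩
  refine isConj_iff.2 ⟨(q : ↥(H ⊔ cj g H)), ?_⟩
  have e := congrArg Subtype.val hq
  simp only [F] at e
  rw [← e, mul_inv_cancel_left]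

theorem genSum_eq (c : Cyc p N H h) (χ : IrrCharacter G) :
    ∃ D D' d : ℕ, (χ : G → ℂ) 1 = d ∧ D ≤ D' ∧ D' ≤ d ∧ (N / p = 1 → D' = d) ∧
      (∑ k : ZMod N, val χ h k) = (N : ℂ) * D ∧
      genSum (N := N) p χ h = (N : ℂ) * D - ((N / p : ℕ) : ℂ) * D' := by
  classical
  obtain ⟨D, D', d, h1, hDD, hDd, hT, hZ⟩ := exists_fix (irr_isCharacter χ) c.hN c.dvd
  refine ⟨D, D', d, h1, hDD, hDd, fun hq => ?_, hT, ?_⟩
  · have h2 : Finset.univ.filter (fun k : ZMod N => p ∣ k.val) = {0} := by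
      refine (Finset.eq_singleton_iff_unique_mem.2 ⟨by simp, fun k hk => ?_⟩)
      obtain ⟨j, hj⟩ := (Finset.mem_filter.1 hk).2
      have hlt := ZMod.val_lt k
      rw [hj] at hlt
      conv_rhs at hlt => rw [← Nat.mul_div_cancel' c.dvd, hq]
      have hj0 : j = 0 := Nat.lt_one_iff.1 (Nat.lt_of_mul_lt_mul_left hlt)
      rw [← ZMod.val_eq_zero, hj, hj0, mul_zero]
    rw [h2, Finset.sum_singleton, pw_zero, h1, hq, Nat.cast_one, one_mul, Nat.cast_inj] at hZ
    exact hZ.symm
  · rw [← hT, ← hZ, ← Finset.sum_filter_add_sum_filter_not Finset.univ (fun k : ZMod N => p ∣ k.val), genSum,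
      gens]
    simp only [val]
    ring

/-- The sum over the generators is not `-χ(1) |h ^ p|`. -/
theorem genSum_add_ne (c : Cyc p N H h) {χ : IrrCharacter G} (hne : genSum (N := N) p χ h ≠ 0) :
    genSum (N := N) p χ h + (χ : G → ℂ) 1 * ((N / p : ℕ) : ℂ) ≠ 0 := by
  classical
  intro h0
  obtain ⟨D, D', d, hd1, hDD, hDd, -, hT, hF⟩ := genSum_eq c χ
  have hq : 0 < N / p := Nat.div_pos (Nat.le_of_dvd (NeZero.pos N) c.dvd) hp.out.pos
  have hnat : p * D + d = D' := by
    have h1 : ((p * D + d : ℕ) : ℂ) * ((N / p : ℕ) : ℂ) = (D' : ℂ) * ((N / p : ℕ) : ℂ) := by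
      have e1 : (p : ℂ) * ((N / p : ℕ) : ℂ) = (N : ℂ) := by rw [← Nat.cast_mul, Nat.mul_div_cancel' c.dvd]
      rw [hF, hd1] at h0
      push_cast
      linear_combination h0 + (D : ℂ) * e1
    exact_mod_cast mul_right_cancel₀ (Nat.cast_ne_zero.2 hq.ne') h1
  have hD0 : D = 0 := by
    rcases Nat.eq_zero_or_pos (p * D) with e | e
    · exact (mul_eq_zero.1 e).resolve_left hp.out.ne_zero
    · omega
  subst hD0
  have hD'd : D' = d := by omega
  subst hD'd
  have htriv : ∀ g : G, ∀ x : G, x ∈ H ⊔ cj g H → ¬ p ∣ orderOf x → (χ : G → ℂ) x = (χ : G → ℂ) 1 := by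
    intro g x hx hxr
    obtain ⟨π, o, -, -, hodd, hcl⟩ := coset_class c g
    haveI : Fintype ↥(H ⊔ cj g H) := Fintype.ofFinite _
    let hX : ↥(H ⊔ cj g H) := ⟨h, Subgroup.mem_sup_left c.mem_H⟩
    have hXN : hX ^ N = 1 := Subtype.ext c.hN
    obtain ⟨m, hm⟩ := IsCharacter.exists_decomp (IsCharacter.restrict (irr_isCharacter χ) (H ⊔ cj g H))
    have hval : ∀ y : ↥(H ⊔ cj g H), (χ : G → ℂ) y = ∑ ψ : IrrCharacter ↥(H ⊔ cj g H), (m ψ : ℂ) * (ψ : ↥(H ⊔ cj g H) → ℂ) y := fun y => by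
      have := congrFun hm y
      simpa [Finset.sum_apply] using this
    choose Dψ D'ψ dψ hdψ hDDψ hDdψ hTψ hZψ using fun ψ : IrrCharacter ↥(H ⊔ cj g H) =>
      exists_fix (irr_isCharacter ψ) hXN c.dvd
    have hpw : ∀ k : ZMod N, ((pw hX k : ↥(H ⊔ cj g H)) : G) = pw h k := fun k => by simp [pw, hX]
    have hTsum : ∑ ψ, m ψ * Dψ ψ = 0 := by
      have h2 : (∑ k : ZMod N, val χ h k) = ∑ k : ZMod N, ∑ ψ, (m ψ : ℂ) * (ψ : ↥(H ⊔ cj g H) → ℂ) (pw hX k) :=
        Finset.sum_congr rfl fun k _ => by rw [← hval, hpw]; rfl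
      rw [Finset.sum_comm, hT, Nat.cast_zero, mul_zero] at h2
      simp only [← Finset.mul_sum, hTψ] at h2
      have h3 : (N : ℂ) * ((∑ ψ, m ψ * Dψ ψ : ℕ) : ℂ) = 0 := by
        push_cast
        rw [Finset.mul_sum, h2]
        exact Finset.sum_congr rfl fun ψ _ => by ring
      exact_mod_cast (mul_eq_zero.1 h3).resolve_left (Nat.cast_ne_zero.2 (NeZero.ne N))
    have hDsum : ∑ ψ, m ψ * D'ψ ψ = ∑ ψ, m ψ * dψ ψ := by
      have h2 : (∑ k ∈ Finset.univ.filter (fun k : ZMod N => p ∣ k.val), (χ : G → ℂ) (pw h k)) =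
          ∑ k ∈ Finset.univ.filter (fun k : ZMod N => p ∣ k.val), ∑ ψ, (m ψ : ℂ) * (ψ : ↥(H ⊔ cj g H) → ℂ) (pw hX k) :=
        Finset.sum_congr rfl fun k _ => by rw [← hval, hpw]
      rw [Finset.sum_comm] at h2
      simp only [← Finset.mul_sum, hZψ] at h2
      have h3 : (∑ k ∈ Finset.univ.filter (fun k : ZMod N => p ∣ k.val), (χ : G → ℂ) (pw h k)) =
          ((N / p : ℕ) : ℂ) * (χ : G → ℂ) 1 := by
        rw [hd1]
        have e := Finset.sum_filter_add_sum_filter_not Finset.univ (fun k : ZMod N => p ∣ k.val)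
          (fun k => val χ h k)
        rw [hT] at e
        simp only [val] at e
        rw [genSum, gens] at hF
        simp only [val] at hF
        linear_combination e - hF
      have h4 : (χ : G → ℂ) 1 = ((∑ ψ, m ψ * dψ ψ : ℕ) : ℂ) := by
        rw [← OneMemClass.coe_one (H ⊔ cj g H), hval]
        push_cast
        exact Finset.sum_congr rfl fun ψ _ => by rw [hdψ]
      rw [h2, h4] at h3
      have h5 : ((N / p : ℕ) : ℂ) * ((∑ ψ, m ψ * D'ψ ψ : ℕ) : ℂ) =
          ((N / p : ℕ) : ℂ) * ((∑ ψ, m ψ * dψ ψ : ℕ) : ℂ) := by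
        rw [← h3]
        push_cast
        rw [Finset.mul_sum]
        exact Finset.sum_congr rfl fun ψ _ => by ring
      exact_mod_cast mul_left_cancel₀ (Nat.cast_ne_zero.2 hq.ne') h5
    have hD0ψ : ∀ ψ, m ψ * Dψ ψ = 0 := fun ψ =>
      (Finset.sum_eq_zero_iff.1 hTsum) ψ (Finset.mem_univ _)
    have hDdψ' : ∀ ψ, m ψ * D'ψ ψ = m ψ * dψ ψ := fun ψ =>
      (Finset.sum_eq_sum_iff_of_le fun ψ _ => Nat.mul_le_mul_left _ (hDdψ ψ)).1 hDsum ψ (Finset.mem_univ _)
    have hR : ∀ ψ, m ψ ≠ 0 → ∀ r ∈ π.ker, (ψ : ↥(H ⊔ cj g H) → ℂ) r = (ψ : ↥(H ⊔ cj g H) → ℂ) 1 := by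
      intro ψ hψ
      by_contra hnt
      have hvan : ∀ k ∈ gens p N, (ψ : ↥(H ⊔ cj g H) → ℂ) (pw hX k) = 0 := fun k hk => by
        refine irr_vanish ψ.2 π.ker (fun r hr => ?_) hnt
        have e : pw hX k = (⟨pw h k, Subgroup.mem_sup_left (c.pw_mem k)⟩ : ↥(H ⊔ cj g H)) := Subtype.ext (hpw k)
        rw [e]
        exact hcl k hk r hr
      have e := Finset.sum_filter_add_sum_filter_not Finset.univ (fun k : ZMod N => p ∣ k.val)
        (fun k => (ψ : ↥(H ⊔ cj g H) → ℂ) (pw hX k))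
      rw [hTψ, hZψ, Finset.sum_eq_zero (fun k hk => hvan k (mem_gens.2 (Finset.mem_filter.1 hk).2)), add_zero,
        Nat.eq_of_mul_eq_mul_left (Nat.pos_of_ne_zero hψ) (hDdψ' ψ),
        (mul_eq_zero.1 (hD0ψ ψ)).resolve_left hψ, Nat.cast_zero, mul_zero, mul_eq_zero] at e
      refine irr_one_ne_zero ψ ?_
      rw [hdψ]
      exact e.resolve_left (Nat.cast_ne_zero.2 hq.ne')
    let x' : ↥(H ⊔ cj g H) := ⟨x, hx⟩
    rw [show x = ((x' : ↥(H ⊔ cj g H)) : G) from rfl, hval, ← OneMemClass.coe_one (H ⊔ cj g H), hval]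
    refine Finset.sum_congr rfl fun ψ _ => ?_
    by_cases hψ : m ψ = 0
    · simp [hψ]
    · rw [hR ψ hψ x' ((hodd x').1 hxr)]
  obtain ⟨K, hK, hmem, -⟩ := IsCharacter.exists_kernel (irr_isCharacter χ)
  haveI := hK
  have htop : K ⊔ H = ⊤ := by
    refine top_le_iff.1 ?_
    rw [← c.crit.top, Subgroup.normalClosure, Subgroup.closure_le]
    intro b hb
    obtain ⟨t, htH, hts⟩ := Group.mem_conjugatesOfSet_iff.1 hb
    obtain ⟨g, rfl⟩ := isConj_iff.1 hts
    obtain ⟨π, o, ho, he, hodd, -⟩ := coset_class c g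
    have hoK : (o : G) ∈ K := (hmem _).2 (htriv g _ o.2 ((hodd o).2 ho))
    have hgt : g * t * g⁻¹ ∈ cj (o : G) H := by
      have h2 : g * t * g⁻¹ ∈ cj g H := mem_cj.2 (by simpa [mul_assoc] using htH)
      exact le_of_eq he h2
    rw [mem_cj] at hgt
    have h3 := mul_mem (mul_mem (Subgroup.mem_sup_left (T := H) hoK) (Subgroup.mem_sup_right hgt))
      (inv_mem (Subgroup.mem_sup_left (T := H) hoK))
    simpa [mul_assoc] using h3
  have hpr := c.eq_principal_of_kernel K (fun g hg => (hmem g).1 hg) htop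
  subst hpr
  simp only [genSum, val, Char.principal, Finset.sum_const, nsmul_one, card_gens c.dvd] at h0
  have h6 : ((p * (N / p) : ℕ) : ℂ) = 0 := by
    push_cast
    linear_combination h0
  exact (mul_pos hp.out.pos hq).ne' (by exact_mod_cast h6)

theorem bound_arith {P q : ℝ} (hP : 3 ≤ P) (hq : q = 1 ∨ 2 ≤ (P - 2) * q) (hq0 : 0 < q) {n D' d : ℝ}
    (hd : 0 < d) (hD : D' ≤ d) (hn : n ≤ D') (h1 : q = 1 → D' = d) (hnd : n < d)
    (hineq : 0 ≤ (P - 1) * q * n ^ 2 - ((P - 1) * q + 2 - q) * n * d - q * D' * d + 2 * d ^ 2) :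
    (P - 1) * n ≤ (P - 2) * d := by
  rcases eq_or_ne q 1 with e | e
  · obtain rfl := h1 e
    subst e
    have h2 : 0 ≤ ((P - 1) * n - D') * (n - D') := by nlinarith
    have h4 : (P - 1) * n ≤ D' := by
      by_contra h5
      nlinarith [mul_pos (sub_pos.2 (not_le.1 h5)) (sub_pos.2 hnd)]
    nlinarith
  · have h2 := hq.resolve_left e
    have h3 : 0 ≤ q * d * (D' - n) := mul_nonneg (mul_nonneg hq0.le hd.le) (sub_nonneg.2 hn)
    have h4 : 0 ≤ ((P - 1) * q * n - 2 * d) * (n - d) := by nlinarith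
    have h5 : (P - 1) * q * n ≤ 2 * d := by nlinarith
    nlinarith

/-- The weight is negative below zero and not positive away from the principal character. -/
theorem weight_sign (c : Cyc p N H h) (hM : IsPModular p M) {χ : IrrCharacter G} (hχ : χ ∈ principalBlock M G) :
    ∃ w : ℝ, weight (N := N) p χ h = (w : ℂ) ∧ (χ ≠ Char.principal G → w ≤ 0) ∧
      (χ = Char.principal G → w = ((p : ℝ) - 1) * ((N / p : ℕ) : ℝ) * ((N / p : ℕ) : ℝ)) ∧
      ((genSum (N := N) p χ h).re < 0 → w < -(((p : ℝ) - 1) * ((N / p : ℕ) : ℝ) * ((N / p : ℕ) : ℝ))) := by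
  classical
  have hdvd := c.dvd
  obtain ⟨D, D', d, hd1, hDD, hDd, hq1, hT, hF⟩ := genSum_eq c χ
  set q : ℕ := N / p with hqdef
  have hNq : (N : ℂ) = (p : ℂ) * (q : ℂ) := by rw [← Nat.cast_mul, hqdef, Nat.mul_div_cancel' hdvd]
  have hqpos : 0 < q := Nat.div_pos (Nat.le_of_dvd (NeZero.pos N) hdvd) hp.out.pos
  have hdpos : 0 < d := Nat.pos_of_ne_zero fun e => irr_one_ne_zero χ (by rw [hd1, e, Nat.cast_zero])
  have hp3 : 3 ≤ p := by have := hp.out.two_le; have := c.odd; omega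
  have hsumC := sum_classOf (h := h) hdvd χ
  have hcard := card_gens (p := p) (N := N) hdvd
  set F := genSum (N := N) p χ h with hFdef
  set K := val χ h (1 : ZMod N) * F + (χ : G → ℂ) 1 * classOf p χ h (1 : ZMod N) with hKdef
  have hK : ∀ k ∈ gens p N, val χ h k * F + (χ : G → ℂ) 1 * classOf p χ h k = K := fun k hk =>
    invariance c hM hχ hk
  have hKsum : F * F + (χ : G → ℂ) 1 * ((q : ℂ) * F) = ((p : ℂ) - 1) * (q : ℂ) * K := by
    rw [← hcard, ← hsumC, Finset.mul_sum, hFdef, genSum, Finset.sum_mul, ← Finset.sum_add_distrib,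
      ← genSum, ← hFdef, Finset.sum_congr rfl hK, Finset.sum_const, nsmul_eq_mul]
  have hp1 : ((p : ℂ) - 1) * (q : ℂ) ≠ 0 := by
    rw [← hcard]
    exact Nat.cast_ne_zero.2 (Finset.card_ne_zero.2 ⟨1, one_mem_gens hdvd⟩)
  by_cases hF0 : F = 0
  · have hK0 : K = 0 := by
      have := hKsum
      rw [hF0] at this
      simp only [mul_zero, add_zero] at this
      exact (mul_eq_zero.1 this.symm).resolve_left hp1
    have hC0 : ∀ k ∈ gens p N, classOf p χ h k = 0 := fun k hk => by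
      have := hK k hk
      rw [hF0, hK0, mul_zero, zero_add] at this
      exact (mul_eq_zero.1 this).resolve_left (irr_one_ne_zero χ)
    refine ⟨0, ?_, fun _ => le_rfl, fun hpr => ?_, fun hneg => absurd hneg (by simp [hF0])⟩
    · have hz : ∑ k ∈ gens p N, conj (val χ h k) * classOf p χ h k = 0 :=
        Finset.sum_eq_zero fun k hk => by rw [hC0 k hk, mul_zero]
      rw [weight, ← hFdef, hF0, hz]
      simp
    · exfalso
      subst hpr
      rw [hFdef, genSum] at hF0
      simp only [val, Char.principal, Finset.sum_const, nsmul_one, Nat.cast_eq_zero] at hF0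
      exact (Finset.card_ne_zero.2 ⟨(1 : ZMod N), one_mem_gens hdvd⟩) hF0
  have hne := genSum_add_ne c hF0
  rw [← hFdef] at hne
  have hconst : ∀ k ∈ gens p N, ∀ l ∈ gens p N, val χ h k = val χ h l := by
    have h1 : ∀ k ∈ gens p N, classOf p χ h k = (q : ℂ) * val χ h k := by
      intro k hk
      rw [classOf, Finset.sum_congr rfl (g := fun _ => val χ h k) (fun l hl => ?_), Finset.sum_const, nsmul_eq_mul,
        card_fiber hdvd, card_multiples hdvd]
      have hl' := (Finset.mem_filter.1 hl).2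
      have hlg := mod_mem_gens hdvd hk hl'
      have hC : classOf p χ h l = classOf p χ h k := by
        rw [classOf, classOf]
        refine Finset.sum_congr (Finset.filter_congr fun j _ => ?_) fun _ _ => rfl
        exact ⟨fun e => e.trans hl', fun e => e.trans hl'.symm⟩
      have := (hK l hlg).trans (hK k hk).symm
      rw [hC, add_left_inj] at this
      exact mul_right_cancel₀ hF0 this
    intro k hk l hl
    have e1 := hK k hk
    have e2 := hK l hl
    rw [h1 k hk] at e1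
    rw [h1 l hl] at e2
    refine mul_right_cancel₀ hne ?_
    linear_combination e1 - e2
  set m := val χ h (1 : ZMod N) with hm
  have hval : ∀ k ∈ gens p N, val χ h k = m := fun k hk => hconst k hk 1 (one_mem_gens hdvd)
  have hFm : F = ((p : ℂ) - 1) * (q : ℂ) * m := by
    rw [hFdef, genSum, Finset.sum_congr rfl hval, Finset.sum_const, nsmul_eq_mul, hcard]
  have hC1 : ∀ k ∈ gens p N, classOf p χ h k = (q : ℂ) * m := fun k hk => by
    rw [classOf, Finset.sum_congr rfl (fun l hl => hval l (mod_mem_gens hdvd hk (Finset.mem_filter.1 hl).2)),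
      Finset.sum_const, nsmul_eq_mul, card_fiber hdvd, card_multiples hdvd]
  -- the common value is an integer
  have hmeq : ((p : ℂ) - 1) * m = (p : ℂ) * D - D' := by
    refine mul_right_cancel₀ (Nat.cast_ne_zero.2 hqpos.ne' : (q : ℂ) ≠ 0) ?_
    rw [hNq] at hF
    linear_combination hF - hFm
  obtain ⟨n, hn⟩ : ∃ n : ℤ, m = (n : ℂ) := by
    have hp10 : (p : ℂ) - 1 ≠ 0 := (mul_ne_zero_iff.1 hp1).1
    have hmq : m = (((((p : ℚ) * D - D') / ((p : ℚ) - 1)) : ℚ) : ℂ) := by
      push_cast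
      rw [eq_div_iff hp10, ← hmeq, mul_comm]
    have hi : IsIntegral ℤ m := IsCharacter.isIntegral (irr_isCharacter χ) (pw h (1 : ZMod N))
    rw [hmq] at hi
    obtain ⟨n, hn⟩ := Char.exists_int_of_isIntegral hi
    exact ⟨n, by rw [hmq, hn]; simp⟩
  have hnD : (n : ℝ) ≤ D' := by
    have h1 : ((p : ℝ) - 1) * n = (p : ℝ) * D - D' := by
      have := congrArg Complex.re hmeq
      rw [hn] at this
      simpa using this
    have h2 : (D : ℝ) ≤ D' := by exact_mod_cast hDD
    have h3 : (3 : ℝ) ≤ p := by exact_mod_cast hp3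
    nlinarith
  -- the lower bound from the regular part
  have hineq : 0 ≤ ((p : ℝ) - 1) * q * (n : ℝ) ^ 2 - (((p : ℝ) - 1) * q + 2 - q) * n * d - q * D' * d +
      2 * (d : ℝ) ^ 2 := by
    obtain ⟨s, hs, hid⟩ := identity c hM
    have e := hid χ hχ
    rw [← hFdef, ← hm, hC1 1 (one_mem_gens hdvd), hn, hd1, hT, hFm, hn] at e
    have hre := congrArg Complex.re e
    simp [Complex.mul_re, Complex.re_sum, Complex.natCast_re, Complex.natCast_im] at hre
    have hS : (Nat.card G : ℝ) * (2 * n - d) ≤ ∑ g, ((χ : G → ℂ) (s g)).re := by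
      rw [Nat.card_eq_fintype_card, ← Finset.card_univ, ← nsmul_eq_mul, ← Finset.sum_const]
      refine Finset.sum_le_sum fun g _ => ?_
      obtain ⟨π, o, -, -, hodd, hcl⟩ := coset_class c g
      obtain ⟨W, -, hW, hR⟩ := pair_bound (IsCharacter.restrict (irr_isCharacter χ) (H ⊔ cj g H)) π.ker
        (x := ⟨pw h (1 : ZMod N), Subgroup.mem_sup_left (c.pw_mem 1)⟩) (hcl 1 (one_mem_gens hdvd))
      have h1 := hR ⟨s g, (hs g).1⟩ ((hodd ⟨s g, (hs g).1⟩).1 (hs g).2)
      change (val χ h (1 : ZMod N)).re ≤ W at hW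
      rw [← hm, hn, Complex.intCast_re] at hW
      change 2 * W - (((χ : G → ℂ) ((1 : ↥(H ⊔ cj g H)) : G))).re ≤ ((χ : G → ℂ) (s g)).re at h1
      rw [OneMemClass.coe_one, hd1, Complex.natCast_re] at h1
      linarith
    have hG : (0 : ℝ) < Nat.card G := by exact_mod_cast Nat.card_pos
    have hd' : (0 : ℝ) < d := by exact_mod_cast hdpos
    have hND : (N : ℝ) * D = ((p : ℝ) - 1) * q * n + q * D' := by
      have := congrArg Complex.re (hFm.symm.trans hF)
      rw [hn] at this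
      simp [Complex.mul_re, Complex.natCast_re, Complex.natCast_im] at this
      linarith
    simp only [Nat.card_eq_fintype_card] at hre hS hG ⊢
    have h5 := mul_le_mul_of_nonneg_left hS hd'.le
    refine nonneg_of_mul_nonneg_left (b := (Fintype.card G : ℝ)) ?_ hG
    rw [hND] at hre
    linear_combination h5 - hre
  refine ⟨((p : ℝ) - 1) * q * q * ((n : ℝ) ^ 2 * (((p : ℝ) - 1) * n - ((p : ℝ) - 2) * d) / d), ?_, ?_, ?_, ?_⟩
  · have hdC : (d : ℂ) ≠ 0 := Nat.cast_ne_zero.2 hdpos.ne'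
    have hs1 : ∑ k ∈ gens p N, conj (val χ h k) * val χ h k = ∑ _k ∈ gens p N, conj m * m :=
      Finset.sum_congr rfl fun k hk => by rw [hval k hk]
    have hs2 : ∑ k ∈ gens p N, conj (val χ h k) * classOf p χ h k = ∑ _k ∈ gens p N, conj m * ((q : ℂ) * m) :=
      Finset.sum_congr rfl fun k hk => by rw [hval k hk, hC1 k hk]
    rw [weight, ← hFdef, hs1, hs2,
      Finset.sum_const, Finset.sum_const, nsmul_eq_mul, nsmul_eq_mul, hcard, hFm, hd1, hn]
    simp only [map_mul, map_sub, map_one, map_natCast, map_intCast]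
    push_cast
    field_simp
    ring
  · intro hpr
    have hnd : (n : ℝ) < d := by
      refine lt_of_le_of_ne (hnD.trans (by exact_mod_cast hDd)) fun e => hpr ?_
      have e' : (χ : G → ℂ) (pw h (1 : ZMod N)) = (χ : G → ℂ) 1 := by
        have e2 : (n : ℤ) = (d : ℤ) := by exact_mod_cast e
        rw [hd1, ← Int.cast_natCast d, ← e2, ← hn]
        rfl
      obtain ⟨K, hK, hmem, -⟩ := IsCharacter.exists_kernel (irr_isCharacter χ)
      haveI := hK
      refine c.eq_principal_of_kernel K (fun g hg => (hmem g).1 hg) (top_le_iff.1 ?_)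
      rw [← c.crit.top]
      refine (Subgroup.normalClosure_le_normal fun x hx => ?_).trans le_sup_left
      have hhK : h ∈ K := by
        have := (hmem _).2 e'
        rwa [← Nat.cast_one (R := ZMod N), pw_natCast c.hN, pow_one] at this
      rw [SetLike.mem_coe, ← c.gen] at hx
      exact Subgroup.zpowers_le.2 hhK hx
    have hP : (3 : ℝ) ≤ p := by exact_mod_cast hp3
    have hdR : (0 : ℝ) < d := by exact_mod_cast hdpos
    have hqq : (q : ℝ) = 1 ∨ 2 ≤ ((p : ℝ) - 2) * q := by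
      rcases Nat.lt_or_ge q 2 with h' | h'
      · left; have : q = 1 := by omega
        exact_mod_cast this
      · right
        have : (2 : ℝ) ≤ q := by exact_mod_cast h'
        nlinarith
    have hb := bound_arith hP hqq (by exact_mod_cast hqpos) hdR (by exact_mod_cast hDd) hnD
      (fun e => by
        have e' : q = 1 := by exact_mod_cast e
        exact_mod_cast hq1 e') hnd hineq
    refine mul_nonpos_of_nonneg_of_nonpos
      (mul_nonneg (mul_nonneg (by linarith) (Nat.cast_nonneg q)) (Nat.cast_nonneg q)) ?_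
    exact div_nonpos_of_nonpos_of_nonneg (mul_nonpos_of_nonneg_of_nonpos (sq_nonneg _) (by linarith)) hdR.le
  · intro hpr
    subst hpr
    have hd : d = 1 := by
      have : ((d : ℕ) : ℂ) = 1 := by rw [← hd1]; rfl
      exact_mod_cast this
    have hn1 : n = 1 := by
      have : ((n : ℤ) : ℂ) = 1 := by rw [← hn, hm, val]; rfl
      exact_mod_cast this
    subst hd hn1
    push_cast
    ring
  · intro hneg
    have hP : (3 : ℝ) ≤ p := by exact_mod_cast hp3
    have hdR : (1 : ℝ) ≤ d := by exact_mod_cast hdpos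
    have hq0 : (0 : ℝ) < ((p : ℝ) - 1) * q := mul_pos (by linarith) (by exact_mod_cast hqpos)
    rw [hFm, hn] at hneg
    simp [Complex.mul_re, Complex.natCast_re, Complex.natCast_im] at hneg
    have hn0 : (n : ℝ) ≤ -1 := by
      have h1 : (n : ℝ) < 0 := by nlinarith
      have : n < 0 := by exact_mod_cast h1
      have : n ≤ -1 := by omega
      exact_mod_cast this
    have hlt : (n : ℝ) ^ 2 * (((p : ℝ) - 1) * n - ((p : ℝ) - 2) * d) / d < -1 := by
      rw [div_lt_iff₀ (by linarith)]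
      have h2 : (1 : ℝ) ≤ (n : ℝ) ^ 2 := by nlinarith
      have h3 : ((p : ℝ) - 1) * n - ((p : ℝ) - 2) * d < -d := by nlinarith
      nlinarith
    have h4 : 0 < ((p : ℝ) - 1) * q * q := mul_pos hq0 (by exact_mod_cast hqpos)
    nlinarith

theorem false_of_cyc (c : Cyc p N H h) : False := by
  classical
  obtain ⟨M, hM⟩ := GlaubermanMod.exists_isPModular p
  haveI := hM.2.1
  set B := Finset.univ.filter (· ∈ principalBlock M G)
  have h0 := sum_weight c hM
  choose w hw hle hpr hneg using fun χ (hχ : χ ∈ principalBlock M G) => weight_sign c hM hχ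
  set P := ((p : ℝ) - 1) * ((N / p : ℕ) : ℝ) * ((N / p : ℕ) : ℝ)
  let W : IrrCharacter G → ℝ := fun χ => if hχ : χ ∈ principalBlock M G then w χ hχ else 0
  have hW : ∑ χ ∈ B, W χ = 0 := by
    have h1 : ((∑ χ ∈ B, W χ : ℝ) : ℂ) = 0 := by
      rw [Complex.ofReal_sum, ← h0]
      refine Finset.sum_congr rfl fun χ hχ => ?_
      have hχ' := (Finset.mem_filter.1 hχ).2
      simp only [W, dif_pos hχ', hw χ hχ']
    exact_mod_cast h1
  have hprin : Char.principal G ∈ B :=
    Finset.mem_filter.2 ⟨Finset.mem_univ _, principal_mem_principalBlock⟩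
  obtain ⟨χ₁, hχ₁, hneg₁⟩ : ∃ χ ∈ B, (genSum (N := N) p χ h).re < 0 := by
    by_contra hall
    push Not at hall
    have h1 : ∑ χ ∈ B, ((χ : G → ℂ) 1 * conj (genSum (N := N) p χ h)).re = 0 := by
      rw [← Complex.re_sum]
      simp only [genSum, map_sum, Finset.mul_sum]
      rw [Finset.sum_comm, Finset.sum_eq_zero (fun k hk => ?_), Complex.zero_re]
      have h2 := blockPair_regular_singular hM (isPBlock_principalBlock M G) (u := (1 : G)) (w := pw h k)
        (by simpa using hp.out.ne_one) (by rw [c.orderOf_pw (mem_gens.1 hk)]; exact c.dvd)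
      unfold blockPair at h2
      rw [← h2]
      exact Finset.sum_congr (by ext; simp [B]) fun χ _ => rfl
    have h3 : ∀ χ ∈ B, 0 ≤ ((χ : G → ℂ) 1 * conj (genSum (N := N) p χ h)).re := fun χ hχ => by
      obtain ⟨d, -, hd⟩ := IsIrrCharacter.exists_degree χ.2
      rw [hd, Complex.mul_re, Complex.natCast_re, Complex.natCast_im, zero_mul, sub_zero, Complex.conj_re]
      exact mul_nonneg (Nat.cast_nonneg _) (hall χ hχ)
    have h4 := (Finset.sum_eq_zero_iff_of_nonneg h3).1 h1 _ hprin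
    simp [genSum, val, Char.principal, Finset.card_eq_zero] at h4
    exact Finset.notMem_empty (1 : ZMod N) (h4 ▸ one_mem_gens c.dvd)
  have hne : χ₁ ≠ Char.principal G := fun e => by
    subst e
    simp [genSum, val, Char.principal] at hneg₁
    exact absurd hneg₁ (not_lt.2 (Nat.cast_nonneg _))
  have hχ₁' := (Finset.mem_filter.1 hχ₁).2
  rw [← Finset.add_sum_erase _ _ hprin, ← Finset.add_sum_erase _ _ (Finset.mem_erase.2 ⟨hne, hχ₁⟩)] at hW
  have e0 : W (Char.principal G) = P := by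
    simp only [W, dif_pos (Finset.mem_filter.1 hprin).2]; exact hpr _ _ rfl
  have e1 : W χ₁ < -P := by simp only [W, dif_pos hχ₁']; exact hneg _ _ hneg₁
  have e2 : ∑ χ ∈ (B.erase (Char.principal G)).erase χ₁, W χ ≤ 0 := Finset.sum_nonpos fun χ hχ => by
    obtain ⟨-, hχ2⟩ := Finset.mem_erase.1 hχ
    obtain ⟨hχp, hχB⟩ := Finset.mem_erase.1 hχ2
    simp only [W, dif_pos (Finset.mem_filter.1 hχB).2]
    exact hle _ _ hχp
  linarith

end Cfsg.Agent.XClosedP
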