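import Cfsg.Agent.Lib.ExtremelyClosed.AbelianOdd.Values

/-!
The minimal counterexample in which the normaliser centralises the elements of order `p`: linear characters
separate the elements of `H`, which is then a Sylow subgroup missing the commutator subgroup.
-/

set_option autoImplicit false
set_option linter.style.haveILetI false
set_option linter.unusedSectionVars false

namespace Cfsg.Agent.XClosedP

open Cfsg Cfsg.Agent.Char Cfsg.Agent.Blocks
open Cfsg.Agent.XClosedAb (cj mem_cj cj_cj cj_one mem_normalizer_cj card_cj)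
open scoped ComplexConjugate commutatorElement

universe u

variable {G : Type u} [Group G] {p : ℕ} [hp : Fact p.Prime] [Fintype G] {H : Subgroup G}
  {M : Ideal AlgInt} [M.IsPrime]

/-- Multiplicativity on the powers of an element of order `p`. -/
theorem mul_pow_values (c : Crit p H) (ht : Triv p H) (hM : IsPModular p M) {χ : IrrCharacter G}
    (hχ : χ ∈ principalBlock M G) {x : G} (hx : x ∈ H) (hxp : orderOf x = p) (i j : ℕ) (hij : ¬ p ∣ i + j) :
    (χ : G → ℂ) (x ^ i) * (χ : G → ℂ) (x ^ j) = (χ : G → ℂ) 1 * (χ : G → ℂ) (x ^ (i + j)) := by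
  rw [pow_add]
  refine irr_mul_of_const χ _ _ fun u v hu hv => ?_
  obtain ⟨a, rfl⟩ := isConj_iff.1 hu
  obtain ⟨b, rfl⟩ := isConj_iff.1 hv
  rw [← conj_pow, ← conj_pow]
  set x₁ := a * x * a⁻¹ with hx₁
  set y₁ := b * x * b⁻¹ with hy₁
  have hA : Mem H (cj a H) := ⟨a, rfl⟩
  have hB : Mem H (cj b H) := ⟨b, rfl⟩
  have hxA : x₁ ∈ cj a H := by rw [mem_cj, hx₁]; simpa [mul_assoc] using hx
  have hyB : y₁ ∈ cj b H := by rw [mem_cj, hy₁]; simpa [mul_assoc] using hx
  have hx₁p : orderOf x₁ = p := by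
    rw [hx₁, show a * x * a⁻¹ = MulAut.conj a x from rfl, MulEquiv.orderOf_eq, hxp]
  have hr : Rel p x₁ y₁ := by
    have := rel_of_triv c.hyp ht hA hxA hx₁p (b * a⁻¹)
    rwa [show b * a⁻¹ * x₁ * (b * a⁻¹)⁻¹ = y₁ by simp [hx₁, hy₁, mul_assoc]] at this
  obtain ⟨π, -, hπid, hodd, -, -, -⟩ := pair_data c.hyp hA hB
  let x' : ↥(cj a H ⊔ cj b H) := ⟨x₁, Subgroup.mem_sup_left hxA⟩
  let y' : ↥(cj a H ⊔ cj b H) := ⟨y₁, Subgroup.mem_sup_right hyB⟩
  have hπy : π y' = π x' := by
    have h1 := (hodd (x'⁻¹ * y')).1 hr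
    rw [map_mul, map_inv, inv_mul_eq_one] at h1
    exact h1.symm
  have hne : x₁ ^ (i + j) ≠ 1 := fun e => hij (hx₁p ▸ orderOf_dvd_of_pow_eq_one e)
  have hrel : Rel p (x₁ ^ (i + j)) (x₁ ^ i * y₁ ^ j) := (hodd ((x' ^ (i + j))⁻¹ * (x' ^ i * y' ^ j))).2 (by
    rw [map_mul, map_inv, map_mul, map_pow, map_pow, map_pow, hπy, ← pow_add, inv_mul_cancel])
  rw [value_eq c hM hχ hA hB (mul_mem (pow_mem (Subgroup.mem_sup_left hxA) i)
    (pow_mem (Subgroup.mem_sup_right hyB) j)) (pow_mem hxA (i + j)) hne hrel, hx₁, conj_pow, conj_value, pow_add]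

theorem eq_zero_or_scalar (c : Crit p H) (ht : Triv p H) (hp2 : p ≠ 2) (hM : IsPModular p M)
    {χ : IrrCharacter G} (hχ : χ ∈ principalBlock M G) {x : G} (hx : x ∈ H) (hxp : orderOf x = p)
    (h0 : (χ : G → ℂ) x ≠ 0) : ‖(χ : G → ℂ) x‖ = ‖(χ : G → ℂ) 1‖ := by
  have hp3 : 3 ≤ p := by have := hp.out.two_le; omega
  have e1 := mul_pow_values c ht hM hχ hx hxp 1 1 (fun h => by have := Nat.le_of_dvd (by norm_num) h; omega)
  have hd : ¬ p ∣ (p - 1) + 2 := fun h => by
    rw [show (p - 1) + 2 = p + 1 by omega, Nat.dvd_add_right dvd_rfl] at h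
    exact hp.out.not_dvd_one h
  have e2 := mul_pow_values c ht hM hχ hx hxp (p - 1) 2 hd
  have hinv : x ^ (p - 1) = x⁻¹ := by
    refine eq_inv_of_mul_eq_one_left ?_
    rw [← pow_succ, Nat.sub_add_cancel (by omega), ← hxp, pow_orderOf_eq_one]
  have hpow : x ^ (p - 1 + 2) = x := by
    rw [show (p - 1) + 2 = p + 1 by omega, pow_succ, ← hxp, pow_orderOf_eq_one, one_mul]
  rw [hinv, irr_inv, hpow] at e2
  rw [pow_one] at e1
  set a := (χ : G → ℂ) x
  set d := (χ : G → ℂ) 1
  have hd0 : d ≠ 0 := irr_one_ne_zero χ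
  have h3 : (conj a * a) * a = d ^ 2 * a := by linear_combination (conj a) * e1 + d * e2
  have h4 := mul_right_cancel₀ h0 h3
  have h5 := congrArg (fun z : ℂ => ‖z‖) h4
  simp only [norm_mul, RCLike.norm_conj, norm_pow, ← pow_two] at h5
  exact (pow_left_inj₀ (norm_nonneg _) (norm_nonneg _) two_ne_zero).1 h5

/-- A principal block character not vanishing at an element of order `p` of `H` is linear. -/
theorem degree_one (c : Crit p H) (ht : Triv p H) (hp2 : p ≠ 2) (hM : IsPModular p M) {χ : IrrCharacter G}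
    (hχ : χ ∈ principalBlock M G) {x : G} (hx : x ∈ H) (hxp : orderOf x = p) (h0 : (χ : G → ℂ) x ≠ 0) :
    (χ : G → ℂ) 1 = 1 := by
  have hnorm := eq_zero_or_scalar c ht hp2 hM hχ hx hxp h0
  obtain ⟨n, ρ, -, hρe⟩ := χ.2
  obtain ⟨K, hK, hmem, -⟩ := IsCharacter.exists_kernel (irr_isCharacter χ)
  haveI := hK
  have hscal : ∀ g : G, g * x * g⁻¹ * x⁻¹ ∈ K := by
    intro g
    have hn : ‖ρ.character x‖ = (Module.finrank ℂ (Fin n → ℂ) : ℝ) := by
      rw [hρe, hnorm, ← hρe, Representation.char_one]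
      simp
    obtain ⟨ω, hω⟩ := (Cfsg.Agent.Char.norm_char_eq_iff ρ x).1 hn
    have hgu : ρ g * ρ x = ρ x * ρ g := by
      ext v; simp [hω]
    rw [hmem, ← hρe]
    show LinearMap.trace ℂ _ (ρ _) = LinearMap.trace ℂ _ (ρ _)
    congr 1
    rw [map_mul, map_mul, map_mul, hgu, mul_assoc (ρ x), ← map_mul, mul_inv_cancel, map_one,
      mul_one, ← map_mul, mul_inv_cancel, map_one]
  have htop : K ⊔ H = ⊤ := by
    by_contra hne
    have hKN := c.normalizes hne
    refine c.nocen x hx hxp ?_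
    rw [Subgroup.mem_center_iff]
    suffices h1 : Subgroup.normalClosure (H : Set G) ≤ Subgroup.centralizer ({x} : Set G) by
      intro g
      exact Subgroup.mem_centralizer_singleton_iff.1 (h1 (c.top ▸ Subgroup.mem_top g))
    rw [Subgroup.normalClosure, Subgroup.closure_le]
    intro b hb
    obtain ⟨t, htH, hts⟩ := Group.mem_conjugatesOfSet_iff.1 hb
    obtain ⟨g, rfl⟩ := isConj_iff.1 hts
    set b := g * t * g⁻¹
    have hbB : b ∈ cj g H := mem_cj.2 (by simpa [b, mul_assoc] using htH)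
    set d := b * x * b⁻¹ * x⁻¹
    have hd : d ∈ H := c.hyp.2.2 g d
      (mul_mem (mul_mem (mul_mem (Subgroup.mem_sup_right hbB) (Subgroup.mem_sup_left hx))
        (inv_mem (Subgroup.mem_sup_right hbB))) (inv_mem (Subgroup.mem_sup_left hx))) (hKN (hscal b))
    obtain ⟨π, hπA, hπid, -, -, -, -⟩ := c.hyp.pair g
    let b' : ↥(H ⊔ cj g H) := ⟨b, Subgroup.mem_sup_right hbB⟩
    let x' : ↥(H ⊔ cj g H) := ⟨x, Subgroup.mem_sup_left hx⟩
    have h2 : π (b' * x' * b'⁻¹ * x'⁻¹) = d := hπid (b' * x' * b'⁻¹ * x'⁻¹) hd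
    rw [map_mul, map_mul, map_mul, map_inv, map_inv, c.hyp.2.1 _ (hπA b') _ (hπA x'), mul_inv_cancel_right,
      mul_inv_cancel] at h2
    rw [SetLike.mem_coe, Subgroup.mem_centralizer_singleton_iff]
    exact mul_inv_eq_iff_eq_mul.1 (mul_inv_eq_one.1 h2.symm)
  refine degree_one_of_commutators χ.2 fun a b => (hmem _).1 ?_
  obtain ⟨k, hk, a, ha, rfl⟩ := Subgroup.mem_sup_of_normal_left.1 (htop ▸ Subgroup.mem_top a : a ∈ K ⊔ H)
  obtain ⟨l, hl, b, hb, rfl⟩ := Subgroup.mem_sup_of_normal_left.1 (htop ▸ Subgroup.mem_top b : b ∈ K ⊔ H)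
  rw [← QuotientGroup.eq_one_iff]
  simp only [QuotientGroup.mk_mul, QuotientGroup.mk_inv, (QuotientGroup.eq_one_iff k).2 hk,
    (QuotientGroup.eq_one_iff l).2 hl, one_mul]
  rw [← QuotientGroup.mk_inv, ← QuotientGroup.mk_inv, ← QuotientGroup.mk_mul, ← QuotientGroup.mk_mul,
    ← QuotientGroup.mk_mul, c.hyp.2.1 a ha b hb, mul_inv_cancel_right, mul_inv_cancel, QuotientGroup.mk_one]

theorem false_of_triv (c : Crit p H) (ht : Triv p H) (hp2 : p ≠ 2) : False := by
  classical
  obtain ⟨M, hM⟩ := GlaubermanMod.exists_isPModular p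
  haveI := hM.2.1
  obtain ⟨x, hx, hxp⟩ := c.exists_order
  haveI : Fintype H := Fintype.ofFinite H
  set B := principalBlock M G
  let L : ∀ y : G, Finset (IrrCharacter G) := fun y =>
    Finset.univ.filter fun χ => χ ∈ B ∧ (χ : G → ℂ) y ≠ 0
  have hlin : ∀ y ∈ H, orderOf y = p → ∀ χ ∈ L y, ∃ f : G →* ℂˣ, (χ : G → ℂ) = fun g => (f g : ℂ) := by
    intro y hy hyp χ hχ
    obtain ⟨-, hB, h0⟩ := Finset.mem_filter.1 hχ
    exact exists_hom_of_degree_one (irr_isCharacter χ) (degree_one c ht hp2 hM hB hy hyp h0)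
  -- few linear characters
  have hcount : (L x).card ≤ Nat.card H := by
    have key : ∀ χ ∈ L x, ∃ θ : IrrCharacter H, ∀ h : H, (θ : H → ℂ) h = (χ : G → ℂ) h := by
      intro χ hχ
      obtain ⟨f, hf⟩ := hlin x hx hxp χ hχ
      exact ⟨⟨_, isIrrCharacter_linear (f.comp H.subtype)⟩, fun h => by rw [hf]; rfl⟩
    choose θ hθ using key
    rw [← RootUnity.card_irr_of_comm (A := H) (fun a b => Subtype.ext (c.hyp.2.1 _ a.2 _ b.2)), ← Finset.card_univ]
    refine Finset.card_le_card_of_injOn (fun χ => if h : χ ∈ L x then θ χ h else principal H)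
      (fun χ _ => Finset.mem_univ _) fun χ hχ ψ hψ e => ?_
    have hχ' : χ ∈ L x := hχ
    have hψ' : ψ ∈ L x := hψ
    simp only [hχ', hψ', dif_pos] at e
    obtain ⟨f, hf⟩ := hlin x hx hxp χ hχ'
    obtain ⟨f', hf'⟩ := hlin x hx hxp ψ hψ'
    have hff : f = f' := by
      refine MonoidHom.ext fun g => ?_
      refine MonoidHom.eqOn_closure (?_ : Set.EqOn f f' (Group.conjugatesOfSet (H : Set G)))
        (show g ∈ Subgroup.normalClosure (H : Set G) by rw [c.top]; exact Subgroup.mem_top g)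
      intro s hs
      obtain ⟨t, htH, hts⟩ := Group.mem_conjugatesOfSet_iff.1 hs
      obtain ⟨a, rfl⟩ := isConj_iff.1 hts
      have h1 : (f t : ℂ) = f' t := by
        have e1 := hθ χ hχ' ⟨t, htH⟩
        rw [e, hθ ψ hψ'] at e1
        rw [hf, hf'] at e1
        exact e1.symm
      simp only [map_mul, map_inv]
      rw [Units.ext h1, mul_comm (f a), mul_comm (f' a), mul_inv_cancel_right, mul_inv_cancel_right]
    exact Subtype.ext (by rw [hf, hf', hff])
  -- `H` is a Sylow subgroup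
  have hpair : ((L x).card : ℂ) = blockPair B x x := by
    rw [Finset.card_eq_sum_ones, Nat.cast_sum]
    unfold blockPair
    rw [← Finset.sum_subset (s₁ := L x) (s₂ := Finset.univ.filter (· ∈ B))
      (fun χ hχ => Finset.mem_filter.2 ⟨Finset.mem_univ _, (Finset.mem_filter.1 hχ).2.1⟩)
      (fun χ h1 h2 => by
        by_contra h3
        refine h2 (Finset.mem_filter.2 ⟨Finset.mem_univ _, (Finset.mem_filter.1 h1).2, fun h4 => h3 ?_⟩)
        rw [h4, zero_mul])]
    refine Finset.sum_congr rfl fun χ hχ => ?_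
    obtain ⟨-, hB, h0⟩ := Finset.mem_filter.1 hχ
    have h1 := eq_zero_or_scalar c ht hp2 hM hB hx hxp h0
    rw [degree_one c ht hp2 hM hB hx hxp h0, norm_one] at h1
    rw [Complex.mul_conj', h1]
    norm_num
  haveI : Fintype (Subgroup.centralizer ({x} : Set G)) := Fintype.ofFinite _
  have hloc2 := sum_normSq_section_principal hM (x := x) ⟨1, by rw [hxp, pow_one]⟩
    (C := Subgroup.centralizer ({x} : Set G)) rfl (y := 1) (by simpa using hp.out.ne_one)
  rw [OneMemClass.coe_one, mul_one, BrauerPairs.blockPair_one_one, ← hpair, Nat.cast_inj] at hloc2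
  have hsyl : ∀ P : Subgroup G, IsPGroup p P → H ≤ P → P = H := by
    intro P hP hHP
    by_contra hne
    have hlt : H.subgroupOf P < ⊤ := by
      rw [lt_top_iff_ne_top, Ne, Subgroup.subgroupOf_eq_top]
      exact fun hle => hne (le_antisymm hle hHP)
    have := hP.isNilpotent
    obtain ⟨n, hn, hnH⟩ := SetLike.exists_of_lt (Group.normalizerCondition_of_isNilpotent _ hlt)
    have hnC : (n : G) ∈ Subgroup.centralizer ({x} : Set G) := by
      rw [Subgroup.mem_centralizer_singleton_iff]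
      exact mul_inv_eq_iff_eq_mul.1 (ht _ (coe_mem_normalizer hHP hn) x hx hxp)
    set Q := (P ⊓ Subgroup.centralizer ({x} : Set G)).subgroupOf (Subgroup.centralizer ({x} : Set G))
    have h1 : Nat.card Q ∣ (L x).card := hloc2 ▸
      card_dvd_degSq hM (isPBlock_principalBlock M _) Q (hP.to_le inf_le_left).comap_subtype
    have hpos : 0 < (L x).card := Finset.card_pos.2 ⟨Char.principal G, Finset.mem_filter.2
      ⟨Finset.mem_univ _, principal_mem_principalBlock, by simp [Char.principal]⟩⟩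
    have h2 : Nat.card Q ≤ Nat.card H := (Nat.le_of_dvd hpos h1).trans hcount
    rw [Nat.card_congr (Subgroup.subgroupOfEquivOfLe inf_le_right).toEquiv] at h2
    have hle : H ≤ P ⊓ Subgroup.centralizer ({x} : Set G) := le_inf hHP fun z hz =>
      Subgroup.mem_centralizer_singleton_iff.2 (c.hyp.2.1 z hz x hx)
    refine hnH (show (n : G) ∈ H from ?_)
    rw [Subgroup.eq_of_le_of_card_ge hle h2]
    exact ⟨n.2, hnC⟩
  -- the commutator subgroup has order prime to `p`
  have hsep : ∀ y ∈ H, orderOf y = p → ∃ f : G →* ℂˣ, f y ≠ 1 := by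
    intro y hy hyp
    by_contra hall
    push Not at hall
    have h0 := blockPair_regular_singular hM (isPBlock_principalBlock M G) (u := (1 : G)) (w := y)
      (by simpa using hp.out.ne_one) (dvd_of_eq hyp.symm)
    unfold blockPair at h0
    rw [← Finset.sum_subset (s₁ := L y) (s₂ := Finset.univ.filter (· ∈ B))
      (fun χ hχ => Finset.mem_filter.2 ⟨Finset.mem_univ _, (Finset.mem_filter.1 hχ).2.1⟩)
      (fun χ h1 h2 => by
        by_contra h3
        refine h2 (Finset.mem_filter.2 ⟨Finset.mem_univ _, (Finset.mem_filter.1 h1).2, fun h4 => h3 ?_⟩)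
        rw [h4, map_zero, mul_zero]), Finset.sum_congr rfl (g := fun _ => (1 : ℂ)) (fun χ hχ => by
        obtain ⟨f, hf⟩ := hlin y hy hyp χ hχ
        simp [hf, hall f]), Finset.sum_const, nsmul_one, Nat.cast_eq_zero, Finset.card_eq_zero] at h0
    have hmem : Char.principal G ∈ L y := Finset.mem_filter.2
      ⟨Finset.mem_univ _, principal_mem_principalBlock, by simp [Char.principal]⟩
    simp [h0] at hmem
  have hcop : (Nat.card (commutator G)).Coprime p := by
    rw [Nat.coprime_comm, hp.out.coprime_iff_not_dvd]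
    intro hd
    obtain ⟨z, hz⟩ := exists_prime_orderOf_dvd_card' p hd
    rw [← Subgroup.orderOf_coe] at hz
    obtain ⟨P, hP⟩ := c.hyp.1.exists_le_sylow
    have hPH : (P : Subgroup G) = H := hsyl _ P.isPGroup' hP
    obtain ⟨Q, hQ⟩ := (IsPGroup.of_card (n := 1) (by rw [Nat.card_zpowers, hz, pow_one]) :
      IsPGroup p (Subgroup.zpowers (z : G))).exists_le_sylow
    obtain ⟨a, rfl⟩ := MulAction.exists_smul_eq G P Q
    have hza := hQ (Subgroup.mem_zpowers (z : G))
    rw [Sylow.coe_subgroup_smul, hPH, Subgroup.mem_pointwise_smul_iff_inv_smul_mem] at hza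
    simp only [MulAut.smul_def, MulAut.inv_def, MulAut.conj_symm_apply] at hza
    have hord : orderOf (a⁻¹ * (z : G) * a) = p := by
      rw [show a⁻¹ * (z : G) * a = MulAut.conj a⁻¹ z by simp [MulAut.conj_apply], MulEquiv.orderOf_eq, hz]
    obtain ⟨f, hf⟩ := hsep _ hza hord
    refine hf ?_
    have h1 := Abelianization.commutator_subset_ker f z.2
    rw [MonoidHom.mem_ker] at h1
    rw [map_mul, map_mul, map_inv, h1, mul_one, inv_mul_cancel]
  have hab : commutator G = ⊥ := le_bot_iff.1 (c.core ▸ FittingCores.le_pPrimeCore inferInstance hcop)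
  refine c.nocen x hx hxp (Subgroup.mem_center_iff.2 fun g => ?_)
  have h2 : ⁅g, x⁆ ∈ commutator G := Subgroup.commutator_mem_commutator (Subgroup.mem_top g) (Subgroup.mem_top x)
  rw [hab, Subgroup.mem_bot] at h2
  exact commutatorElement_eq_one_iff_mul_comm.1 h2

end Cfsg.Agent.XClosedP
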