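import Cfsg.Agent.Lib.ExtremelyClosed.AbelianOdd.Main
import Cfsg.Agent.Lib.Char.GlaubermanCyclic

/-!
The normal closure of an extremely closed abelian `p`-subgroup `H`, `p` odd, meets `N(H)` in `H`: the
multiplicativity of characters on the classes of an element `x` of order `p` of `H`, read through the Glauberman
correspondence of `x`.
-/

set_option autoImplicit false
set_option linter.style.haveILetI false
set_option linter.unusedSectionVars false

namespace Cfsg.Agent.XClosedP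

open Cfsg Cfsg.Agent.Char
open Cfsg.Agent.XClosedAb (cj mem_cj cj_cj cj_one mem_normalizer_cj card_cj)
open scoped ComplexConjugate

universe u

variable {p : ℕ} [hp : Fact p.Prime]

theorem coprime_of_not_dvd {n : ℕ} (h : ¬ p ∣ n) (k : ℕ) : (p ^ k).Coprime n :=
  (hp.out.coprime_iff_not_dvd.2 h).pow_left k

theorem exists_irr_ne {Q : Type u} [Group Q] [Finite Q] {q : Q} (hq : q ≠ 1) :
    ∃ χ : IrrCharacter Q, (χ : Q → ℂ) q ≠ (χ : Q → ℂ) 1 := by
  classical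
  haveI : Fintype Q := Fintype.ofFinite Q
  by_contra hall
  push Not at hall
  have h1 : ¬ IsConj q 1 := fun e => hq (isConj_one_left.1 e)
  have h2 := column_orth_of_not_isConj h1
  rw [Finset.sum_congr rfl (fun χ _ => by rw [hall χ]), column_orth_of_isConj (IsConj.refl (1 : Q)),
    Nat.cast_eq_zero] at h2
  exact (Nat.card_pos (α := Subgroup.centralizer ({(1 : Q)} : Set Q))).ne' h2

/-- Products of two conjugates of powers of `x` taken in the subgroup `O`. -/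
theorem product_form {G : Type u} [Group G] [Finite G] {H : Subgroup G} (h : Hyp p H) (ht : Triv p H)
    (O W : Subgroup G) [O.Normal] (hOH : O ⊔ H = ⊤) {x : G} (hx : x ∈ H) (hxp : orderOf x = p)
    (hW : ∀ g r : G, r ∈ H ⊔ cj g H → ¬ p ∣ orderOf r → r ∈ Subgroup.centralizer ({x} : Set G) → r ∈ W)
    (hWn : ∀ b ∈ H, ∀ w ∈ W, b * w * b⁻¹ ∈ W) {i j : ℕ} (hij : ¬ p ∣ i + j) (g f : G) :
    ∃ o ∈ O, ∃ w ∈ W, g * x ^ i * g⁻¹ * (f * x ^ j * f⁻¹) = o * (x ^ (i + j) * w) * o⁻¹ := by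
  set f' := g⁻¹ * f
  have hr := rel_of_triv h ht (Mem.self (H := H)) hx hxp f'
  obtain ⟨π, hπA, hπid, hodd, -, hsyl, -⟩ := h.pair f'
  let x' : ↥(H ⊔ cj f' H) := ⟨x, Subgroup.mem_sup_left hx⟩
  let y' : ↥(H ⊔ cj f' H) :=
    ⟨f' * x * f'⁻¹, Subgroup.mem_sup_right (mem_cj.2 (by simpa [mul_assoc] using hx))⟩
  have hπy : π y' = π x' := by
    have h1 := (hodd (x'⁻¹ * y')).1 hr
    rw [map_mul, map_inv, inv_mul_eq_one] at h1
    exact h1.symm
  have hπx : π x' = x := hπid x' hx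
  set s' := x' ^ i * y' ^ j with hs'
  have hπs : π s' = x ^ (i + j) := by
    rw [hs', map_mul, map_pow, map_pow, hπy, hπx, ← pow_add]
  haveI : Fintype ↥(H ⊔ cj f' H) := Fintype.ofFinite _
  obtain ⟨b, hb⟩ := Blocks.exists_isPPart hp.out s'
  obtain ⟨d, hbd, hcomm, ⟨k, hk⟩, hd⟩ := hb
  rw [← Subgroup.orderOf_coe] at hd
  have hπb : π b = x ^ (i + j) := by
    have := congrArg π hbd
    rwa [map_mul, (hodd d).1 hd, mul_one, hπs] at this
  obtain ⟨o, ho⟩ := hsyl (Subgroup.zpowers (b : G)) (Subgroup.zpowers_le.2 b.2)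
    (IsPGroup.of_card (n := k) (by rw [Nat.card_zpowers, Subgroup.orderOf_coe, hk]))
  have hbo := mem_cj.1 (ho (Subgroup.mem_zpowers _))
  let a₂ : ↥(H ⊔ cj f' H) := ⟨_, Subgroup.mem_sup_left hbo⟩
  have ha₂ : a₂ = o⁻¹ * b * o := Subtype.ext (by simp [a₂])
  have hba : (o : G)⁻¹ * b * o = x ^ (i + j) := by
    have h1 := congrArg π ha₂
    rw [hπid a₂ hbo, map_mul, map_mul, map_inv, hπb,
      mul_assoc, h.2.1 _ (pow_mem hx _) _ (hπA o), inv_mul_cancel_left] at h1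
    exact h1
  set r : G := (o : G)⁻¹ * d * o with hrdef
  have hso : (s' : G) = (o : G) * (x ^ (i + j) * r) * (o : G)⁻¹ := by
    have h1 : (b : G) * d = (s' : G) := congrArg Subtype.val hbd
    rw [← hba, hrdef, ← h1]
    group
  have hrC : r ∈ Subgroup.centralizer ({x} : Set G) := by
    have h2 : Commute r (x ^ (i + j)) := by
      show r * x ^ (i + j) = x ^ (i + j) * r
      rw [← hba, hrdef]
      have h1 : (d : G) * b = b * d := (congrArg Subtype.val hcomm.eq).symm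
      calc (o : G)⁻¹ * d * o * ((o : G)⁻¹ * b * o) = (o : G)⁻¹ * ((d : G) * b) * o := by group
        _ = (o : G)⁻¹ * ((b : G) * d) * o := by rw [h1]
        _ = (o : G)⁻¹ * b * o * ((o : G)⁻¹ * d * o) := by group
    rw [Subgroup.mem_centralizer_singleton_iff]
    have hco : (i + j).Coprime (orderOf x) := by
      rw [hxp, Nat.coprime_comm, hp.out.coprime_iff_not_dvd]; exact hij
    obtain ⟨m, hm⟩ := exists_pow_eq_self_of_coprime hco
    have h3 := h2.pow_right m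
    rw [hm] at h3
    exact h3.eq
  have hro : ¬ p ∣ orderOf r := by
    rwa [hrdef, show (o : G)⁻¹ * d * o = MulAut.conj (o : G)⁻¹ d by simp,
      MulEquiv.orderOf_eq]
  have hrW := hW f' r (mul_mem (mul_mem (inv_mem o.2) d.2) o.2) hro hrC
  obtain ⟨o', ho', c, hc, hoc⟩ := Subgroup.mem_sup_of_normal_left.1
    ((by rw [hOH]; trivial) : g * (o : G) ∈ O ⊔ H)
  refine ⟨o', ho', c * r * c⁻¹, hWn c hc r hrW, ?_⟩
  have hcx : c * x ^ (i + j) * c⁻¹ = x ^ (i + j) := by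
    rw [h.2.1 c hc _ (pow_mem hx _), mul_inv_cancel_right]
  calc g * x ^ i * g⁻¹ * (f * x ^ j * f⁻¹) = g * (s' : G) * g⁻¹ := by
        simp only [hs', x', y', f', Subgroup.coe_mul, SubmonoidClass.coe_pow, conj_pow]; group
    _ = (g * o) * (x ^ (i + j) * r) * (g * o)⁻¹ := by rw [hso]; group
    _ = o' * ((c * x ^ (i + j) * c⁻¹) * (c * r * c⁻¹)) * o'⁻¹ := by rw [← hoc]; group
    _ = _ := by rw [hcx]

/-- In a minimal case the centraliser of `H` in the `p'`-core is trivial. -/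
theorem centralizer_core_eq_bot (hp2 : p ≠ 2) {G : Type u} [Group G] [Finite G] {H : Subgroup G} (h : Hyp p H)
    (O : Subgroup G) [O.Normal] (hO : ¬ p ∣ Nat.card O) (hOH : O ⊔ H = ⊤)
    (htriv : ∀ n ∈ Subgroup.normalizer (H : Set G), ∀ a ∈ H, n * a * n⁻¹ = a)
    {x : G} (hx : x ∈ H) (hxp : orderOf x = p) (hxc : x ∉ Subgroup.center G)
    (hsub : Subgroup.normalClosure ((H.subgroupOf (Subgroup.centralizer ({x} : Set G)) :
        Subgroup ↥(Subgroup.centralizer ({x} : Set G))) : Set ↥(Subgroup.centralizer ({x} : Set G))) ⊓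
      Subgroup.normalizer ((H.subgroupOf (Subgroup.centralizer ({x} : Set G)) :
        Subgroup ↥(Subgroup.centralizer ({x} : Set G))) : Set ↥(Subgroup.centralizer ({x} : Set G))) ≤
      H.subgroupOf (Subgroup.centralizer ({x} : Set G)))
    (hquot : ∀ M : Subgroup G, M.Normal → M ≠ ⊥ → M ≤ O →
      ∀ c ∈ O, c ∈ Subgroup.normalizer (H : Set G) → c ∈ M) :
    ∀ c ∈ O, c ∈ Subgroup.normalizer (H : Set G) → c = 1 := by
  classical
  intro c₀ hc₀O hc₀N
  by_contra hc₀1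
  set Cx := Subgroup.centralizer ({x} : Set G) with hCx
  have hHCx : H ≤ Cx := fun z hz => Subgroup.mem_centralizer_singleton_iff.2 (h.2.1 z hz x hx)
  have hdisj : ∀ y ∈ O, y ∈ H → y = 1 := fun y hyO hyH =>
    eq_one_of_pgroup h.1 hyH fun hd => hO (hd.trans (Subgroup.orderOf_dvd_natCard O hyO))
  set N₁ := Subgroup.normalClosure ((H.subgroupOf Cx : Subgroup Cx) : Set Cx) with hN₁
  set W : Subgroup G := N₁.map Cx.subtype ⊓ O with hWdef
  have hW : ∀ g r : G, r ∈ H ⊔ cj g H → ¬ p ∣ orderOf r → r ∈ Cx → r ∈ W := by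
    intro g r hrX hr hrC
    refine ⟨?_, ?_⟩
    · have hrH : cj r H ≤ N₁.map Cx.subtype ⊓ (H ⊔ cj g H) := by
        rintro _ ⟨z, hz, rfl⟩
        refine ⟨⟨(⟨r, hrC⟩ : Cx) * ⟨z, hHCx hz⟩ * (⟨r, hrC⟩ : Cx)⁻¹, ?_, rfl⟩,
          (H ⊔ cj g H).mul_mem ((H ⊔ cj g H).mul_mem hrX (Subgroup.mem_sup_left hz)) ((H ⊔ cj g H).inv_mem hrX)⟩
        exact Subgroup.normalClosure_normal.conj_mem (⟨z, hHCx hz⟩ : Cx)
          (Subgroup.subset_normalClosure (show (⟨z, hHCx hz⟩ : Cx) ∈ H.subgroupOf Cx from hz)) _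
      have hH1 : H ≤ N₁.map Cx.subtype ⊓ (H ⊔ cj g H) := fun z hz =>
        ⟨⟨⟨z, hHCx hz⟩, Subgroup.subset_normalClosure hz, rfl⟩, Subgroup.mem_sup_left hz⟩
      obtain ⟨o, ho, he⟩ := h.exists_mem hH1 hrH
      have hor : o⁻¹ * r ∈ H := by
        refine h.2.2 g _ (mul_mem (inv_mem ho.2) hrX) ?_
        rw [mem_normalizer_cj, ← cj_cj, he, cj_cj, inv_mul_cancel, cj_one]
      have := mul_mem ho.1 (hH1 hor).1
      rwa [mul_inv_cancel_left] at this
    · obtain ⟨t, ht, b, hb, htb⟩ := Subgroup.mem_sup_of_normal_left.1 ((by rw [hOH]; trivial) : r ∈ O ⊔ H)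
      have h1 : QuotientGroup.mk' O r = 1 := by
        refine eq_one_of_pgroup (h.1.map (QuotientGroup.mk' O)) ⟨b, hb, ?_⟩ fun hd =>
          hr (hd.trans (orderOf_map_dvd _ _))
        rw [← htb, map_mul, show QuotientGroup.mk' O t = 1 from (QuotientGroup.eq_one_iff t).2 ht, one_mul]
      exact (QuotientGroup.eq_one_iff r).1 h1
  have hWC : W ≤ Cx := inf_le_left.trans (Subgroup.map_subtype_le _)
  have hWn : ∀ b ∈ Cx, ∀ w ∈ W, b * w * b⁻¹ ∈ W := by
    rintro b hb w ⟨⟨w', hw', rfl⟩, hwO⟩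
    exact ⟨⟨⟨b, hb⟩ * w' * ⟨b, hb⟩⁻¹, Subgroup.normalClosure_normal.conj_mem _ hw' _, rfl⟩,
      ‹O.Normal›.conj_mem _ hwO b⟩
  have hWN : ∀ w ∈ W, w ∈ Subgroup.normalizer (H : Set G) → w = 1 := by
    rintro w ⟨⟨w', hw', rfl⟩, hwO⟩ hwN
    exact hdisj _ hwO (hsub ⟨hw', Subgroup.mem_normalizer_iff.2 fun y =>
      Subgroup.mem_normalizer_iff.1 hwN (y : G)⟩)
  -- `C_O(x) = W C_O(H)`
  have hfac : ∀ u ∈ O, u ∈ Cx → ∃ w ∈ W, ∃ c ∈ O, c ∈ Subgroup.normalizer (H : Set G) ∧ u = w * c := by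
    intro u huO huC
    have hH1 : H ≤ N₁.map Cx.subtype := fun z hz => ⟨⟨z, hHCx hz⟩, Subgroup.subset_normalClosure hz, rfl⟩
    obtain ⟨o, ho, he⟩ := h.exists_mem hH1 (show cj u H ≤ N₁.map Cx.subtype by
      rintro _ ⟨z, hz, rfl⟩
      exact ⟨(⟨u, huC⟩ : Cx) * ⟨z, hHCx hz⟩ * (⟨u, huC⟩ : Cx)⁻¹,
        Subgroup.normalClosure_normal.conj_mem (⟨z, hHCx hz⟩ : Cx)
          (Subgroup.subset_normalClosure (show (⟨z, hHCx hz⟩ : Cx) ∈ H.subgroupOf Cx from hz)) _, rfl⟩)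
    obtain ⟨t, ht, b, hb, htb⟩ := Subgroup.mem_sup_of_normal_left.1 ((by rw [hOH]; trivial) : o ∈ O ⊔ H)
    have htW : t ∈ W := by
      refine ⟨?_, ht⟩
      rw [show t = o * b⁻¹ by rw [← htb, mul_inv_cancel_right]]
      exact mul_mem ho (hH1 (inv_mem hb))
    refine ⟨t, htW, t⁻¹ * u, mul_mem (inv_mem ht) huO, ?_, by group⟩
    have h1 : o⁻¹ * u ∈ Subgroup.normalizer (H : Set G) := by
      rw [mem_normalizer_cj, ← cj_cj, he, cj_cj, inv_mul_cancel, cj_one]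
    rw [show t⁻¹ * u = b * (o⁻¹ * u) by rw [← htb]; group]
    exact mul_mem (Subgroup.le_normalizer hb) h1
  -- the semidirect product of `O` and `⟨x⟩`
  set Γ : Subgroup G := O ⊔ Subgroup.zpowers x with hΓ
  haveI : Fintype Γ := Fintype.ofFinite _
  let xΓ : Γ := ⟨x, Subgroup.mem_sup_right (Subgroup.mem_zpowers x)⟩
  set OΓ : Subgroup Γ := O.subgroupOf Γ
  set SΓ : Subgroup Γ := Subgroup.zpowers xΓ
  set CΓ : Subgroup Γ := OΓ ⊓ Subgroup.centralizer (SΓ : Set Γ) with hCΓ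
  haveI : OΓ.Normal := inferInstance
  haveI : Fintype OΓ := Fintype.ofFinite _
  haveI : Fintype CΓ := Fintype.ofFinite _
  have hSmap : SΓ.map Γ.subtype = Subgroup.zpowers x := MonoidHom.map_zpowers _ _
  have D : GlaubCyc.Data OΓ SΓ CΓ := by
    refine ⟨?_, ?_, inferInstance, rfl⟩
    · apply Subgroup.map_injective Γ.subtype_injective
      rw [Subgroup.map_sup, hSmap, Subgroup.map_subgroupOf_eq_of_le (le_sup_left : O ≤ Γ), ← MonoidHom.range_eq_map,
        Subgroup.range_subtype]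
    · rw [Nat.card_congr (Subgroup.subgroupOfEquivOfLe (le_sup_left : O ≤ Γ)).toEquiv, Nat.card_zpowers,
        ← Subgroup.orderOf_coe, hxp, Nat.coprime_comm, hp.out.coprime_iff_not_dvd]
      exact hO
  have hmemC : ∀ u : Γ, u ∈ CΓ ↔ (u : G) ∈ O ∧ (u : G) ∈ Cx := by
    intro u
    rw [hCΓ, Subgroup.mem_inf, Subgroup.mem_subgroupOf, Subgroup.mem_centralizer_iff,
      Subgroup.mem_centralizer_singleton_iff]
    refine and_congr_right fun _ => ⟨fun hu => ?_, fun hu t ht => ?_⟩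
    · exact (congrArg Subtype.val (hu xΓ (Subgroup.mem_zpowers xΓ))).symm
    · obtain ⟨i, rfl⟩ := Subgroup.mem_zpowers_iff.1 ht
      exact ((show Commute u xΓ from Subtype.ext hu).zpow_right i).eq.symm
  have hcx : c₀ ∈ Cx := by
    rw [Subgroup.mem_centralizer_singleton_iff]
    exact mul_inv_eq_iff_eq_mul.1 (htriv c₀ hc₀N x hx)
  -- a character of `C_O(x)` trivial on `W` and not at `c₀`
  let W' : Subgroup CΓ := (W.subgroupOf Γ).subgroupOf CΓ
  haveI : W'.Normal := ⟨fun w hw u => hWn _ ((hmemC u).1 u.2).2 _ hw⟩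
  let cΓ : CΓ := ⟨⟨c₀, Subgroup.mem_sup_left hc₀O⟩, (hmemC _).2 ⟨hc₀O, hcx⟩⟩
  have hcW : QuotientGroup.mk' W' cΓ ≠ 1 := fun e =>
    hc₀1 (hWN c₀ ((QuotientGroup.eq_one_iff cΓ).1 e) hc₀N)
  obtain ⟨β₀, hβ₀⟩ := exists_irr_ne hcW
  let β : IrrCharacter CΓ := ⟨_, IsIrrCharacter.comp β₀.2 (QuotientGroup.mk' W') (QuotientGroup.mk'_surjective _)⟩
  have hβW : ∀ w : CΓ, ((w : Γ) : G) ∈ W → (β : CΓ → ℂ) w = (β : CΓ → ℂ) 1 := by
    intro w hw
    show (β₀ : CΓ ⧸ W' → ℂ) (QuotientGroup.mk' W' w) = (β₀ : CΓ ⧸ W' → ℂ) (QuotientGroup.mk' W' 1)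
    rw [map_one, show QuotientGroup.mk' W' w = 1 from (QuotientGroup.eq_one_iff w).2 hw]
  have hβc : (β : CΓ → ℂ) cΓ ≠ (β : CΓ → ℂ) 1 := by
    show (β₀ : CΓ ⧸ W' → ℂ) (QuotientGroup.mk' W' cΓ) ≠ (β₀ : CΓ ⧸ W' → ℂ) (QuotientGroup.mk' W' 1)
    rwa [map_one]
  obtain ⟨θ, χh, ε, -, ⟨hirr, -⟩, -, hε, hval⟩ := GlaubCyc.exists_of_correspondent D β
  have hε0 : (ε : ℂ) ≠ 0 := by rcases hε with e | e <;> simp [e]
  let χ : IrrCharacter Γ := ⟨χh, hirr⟩
  -- values on the powers of `x` times `W`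
  have hxo : orderOf xΓ = p := by rw [← Subgroup.orderOf_coe]; exact hxp
  have hgenk : ∀ k : ℕ, ¬ p ∣ k → Subgroup.zpowers (xΓ ^ k) = SΓ := fun k hk => by
    refine Subgroup.eq_of_le_of_card_ge (Subgroup.zpowers_le.2 (pow_mem (Subgroup.mem_zpowers _) k)) ?_
    rw [Nat.card_zpowers, Nat.card_zpowers, Nat.Coprime.orderOf_pow]
    rw [hxo, hp.out.coprime_iff_not_dvd]
    exact hk
  have hvW : ∀ k : ℕ, ¬ p ∣ k → ∀ w : Γ, (w : G) ∈ W → χh (xΓ ^ k * w) = χh (xΓ ^ k) := by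
    intro k hk w hw
    have hwC : w ∈ CΓ := (hmemC w).2 ⟨hw.2, hWC hw⟩
    have hcom : xΓ ^ k * w = w * xΓ ^ k :=
      ((show Commute w xΓ from Subtype.ext (Subgroup.mem_centralizer_singleton_iff.1 (hWC hw))).pow_right k).eq.symm
    rw [hcom]
    have h1 := hval ⟨w, hwC⟩ _ (hgenk k hk)
    have h2 := hval 1 _ (hgenk k hk)
    rw [OneMemClass.coe_one, one_mul] at h2
    rw [h1, h2, hβW _ hw]
  have hcf := IsCharacter.isClassFunction (IsIrrCharacter.isCharacter hirr)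
  have hprod : ∀ i j : ℕ, ¬ p ∣ i + j →
      χh (xΓ ^ i) * χh (xΓ ^ j) = χh 1 * χh (xΓ ^ (i + j)) := by
    intro i j hij
    rw [pow_add]
    refine Blocks.irr_mul_of_const χ _ _ fun u v hu hv => ?_
    obtain ⟨g, rfl⟩ := isConj_iff.1 hu
    obtain ⟨f, rfl⟩ := isConj_iff.1 hv
    obtain ⟨o, ho, w, hw, he⟩ := product_form h (fun n hn a ha _ => htriv n hn a ha) O W hOH hx hxp hW
      (fun b hb => hWn b (hHCx hb)) hij (g : G) (f : G)
    show χh (g * xΓ ^ i * g⁻¹ * (f * xΓ ^ j * f⁻¹)) = χh (xΓ ^ i * xΓ ^ j)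
    let oΓ : Γ := ⟨o, Subgroup.mem_sup_left ho⟩
    let wΓ : Γ := ⟨w, Subgroup.mem_sup_left hw.2⟩
    have e : g * xΓ ^ i * g⁻¹ * (f * xΓ ^ j * f⁻¹) = oΓ * (xΓ ^ (i + j) * wΓ) * oΓ⁻¹ := Subtype.ext he
    rw [e, hcf, hvW _ hij wΓ hw, pow_add]
  have hp3 : 3 ≤ p := by have := hp.out.two_le; omega
  have hxv : χh xΓ = (ε : ℂ) * (β : CΓ → ℂ) 1 := by
    have h2 := hval 1 xΓ rfl
    rwa [OneMemClass.coe_one, one_mul] at h2
  have hx0 : χh xΓ ≠ 0 := hxv ▸ mul_ne_zero hε0 (Blocks.irr_one_ne_zero β)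
  have hnorm : ‖χh xΓ‖ = ‖χh 1‖ := by
    have hd : ¬ p ∣ (p - 1) + 2 := fun hh => by
      rw [show (p - 1) + 2 = p + 1 by omega, Nat.dvd_add_right dvd_rfl] at hh
      exact hp.out.not_dvd_one hh
    have e1 := hprod 1 1 (fun hh => by have := Nat.le_of_dvd (by norm_num) hh; omega)
    have e2 := hprod (p - 1) 2 hd
    have hinv : xΓ ^ (p - 1) = xΓ⁻¹ := by
      refine eq_inv_of_mul_eq_one_left ?_
      rw [← pow_succ, Nat.sub_add_cancel (by omega), ← hxo, pow_orderOf_eq_one]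
    have hpow : xΓ ^ (p - 1 + 2) = xΓ := by
      rw [show (p - 1) + 2 = p + 1 by omega, pow_succ, ← hxo, pow_orderOf_eq_one, one_mul]
    rw [hinv, IsCharacter.inv (IsIrrCharacter.isCharacter hirr), hpow] at e2
    rw [pow_one] at e1
    have hd0 : χh 1 ≠ 0 := IsIrrCharacter.one_ne_zero hirr
    have h3 : (conj (χh xΓ) * χh xΓ) * χh xΓ = χh 1 ^ 2 * χh xΓ := by
      linear_combination (conj (χh xΓ)) * e1 + χh 1 * e2
    have h5 := congrArg (fun z : ℂ => ‖z‖) (mul_right_cancel₀ hx0 h3)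
    simp only [norm_mul, RCLike.norm_conj, norm_pow, ← pow_two] at h5
    exact (pow_left_inj₀ (norm_nonneg _) (norm_nonneg _) two_ne_zero).1 h5
  -- the kernel contains the commutators with `x`
  obtain ⟨K, hK, hKmem, hKtr⟩ := IsCharacter.exists_kernel (IsIrrCharacter.isCharacter hirr)
  haveI := hK
  obtain ⟨n, ρ, -, hρe⟩ := hirr
  have hscal : ∀ g : Γ, g * xΓ * g⁻¹ * xΓ⁻¹ ∈ K := by
    intro g
    have hn : ‖ρ.character xΓ‖ = (Module.finrank ℂ (Fin n → ℂ) : ℝ) := by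
      rw [hρe, hnorm, ← hρe, Representation.char_one]
      simp
    obtain ⟨ω, hω⟩ := (norm_char_eq_iff ρ xΓ).1 hn
    have hgu : ρ g * ρ xΓ = ρ xΓ * ρ g := by
      ext v; simp [hω]
    rw [hKmem, ← hρe]
    show LinearMap.trace ℂ _ (ρ _) = LinearMap.trace ℂ _ (ρ _)
    congr 1
    rw [map_mul, map_mul, map_mul, hgu, mul_assoc (ρ xΓ), ← map_mul, mul_inv_cancel, map_one,
      mul_one, ← map_mul, mul_inv_cancel, map_one]
  set L := Subgroup.normalClosure {s : G | ∃ g ∈ O, s = g * x * g⁻¹ * x⁻¹} with hLdef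
  have hSO : ∀ g ∈ O, g * x * g⁻¹ * x⁻¹ ∈ O := fun g hg => by
    rw [mul_assoc g x, mul_assoc g]
    exact mul_mem hg (‹O.Normal›.conj_mem _ (inv_mem hg) x)
  have hLO : L ≤ O := Subgroup.normalClosure_le_normal fun s ⟨g, hg, hs⟩ => hs ▸ hSO g hg
  have hLK : L ≤ K.map Γ.subtype := by
    rw [hLdef, Subgroup.normalClosure, Subgroup.closure_le]
    intro s hs
    obtain ⟨t, ⟨g, hg, rfl⟩, hts⟩ := Group.mem_conjugatesOfSet_iff.1 hs
    obtain ⟨a, rfl⟩ := isConj_iff.1 hts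
    obtain ⟨o, ho, b, hb, rfl⟩ := Subgroup.mem_sup_of_normal_left.1 ((by rw [hOH]; trivial) : a ∈ O ⊔ H)
    let g' : Γ := ⟨b * g * b⁻¹, Subgroup.mem_sup_left (‹O.Normal›.conj_mem g hg b)⟩
    let oΓ : Γ := ⟨o, Subgroup.mem_sup_left ho⟩
    refine ⟨oΓ * (g' * xΓ * g'⁻¹ * xΓ⁻¹) * oΓ⁻¹, hK.conj_mem _ (hscal g') _, ?_⟩
    have hbx : b * x * b⁻¹ = x := by rw [h.2.1 b hb x hx, mul_inv_cancel_right]
    show o * (b * g * b⁻¹ * x * (b * g * b⁻¹)⁻¹ * x⁻¹) * o⁻¹ = o * b * (g * x * g⁻¹ * x⁻¹) * (o * b)⁻¹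
    conv_lhs => rw [← hbx]
    group
  have hLne : L ≠ ⊥ := by
    intro hL
    refine hxc (Subgroup.mem_center_iff.2 fun a => ?_)
    obtain ⟨o, ho, b, hb, rfl⟩ := Subgroup.mem_sup_of_normal_left.1 ((by rw [hOH]; trivial) : a ∈ O ⊔ H)
    have h1 : o * x * o⁻¹ * x⁻¹ = 1 := by
      rw [← Subgroup.mem_bot, ← hL]
      exact Subgroup.subset_normalClosure ⟨o, ho, rfl⟩
    have h2 : o * x = x * o := mul_inv_eq_iff_eq_mul.1 (mul_inv_eq_one.1 h1)
    rw [mul_assoc, h.2.1 b hb x hx, ← mul_assoc, h2, mul_assoc]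
  obtain ⟨k, hk, hkc⟩ := hLK (hquot L Subgroup.normalClosure_normal hLne hLO c₀ hc₀O hc₀N)
  have hkc' : k = (cΓ : Γ) := Subtype.ext hkc
  subst hkc'
  have h1 := hKtr _ hk xΓ
  rw [hval cΓ xΓ rfl, hxv] at h1
  exact hβc (mul_left_cancel₀ hε0 h1)

theorem closure_aux (hp2 : p ≠ 2) : ∀ (n : ℕ) (G : Type u) [Group G] [Finite G] (H : Subgroup G), Nat.card G ≤ n →
    Hyp p H → Subgroup.normalClosure (H : Set G) ⊓ Subgroup.normalizer (H : Set G) ≤ H := by
  intro n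
  induction n with
  | zero => intro G _ _ H hn; exact absurd hn (by have := Nat.card_pos (α := G); omega)
  | succ n ih =>
  intro G _ _ H hn h
  set G₀ := Subgroup.normalClosure (H : Set G) with hG₀
  have hHG₀ : H ≤ G₀ := Subgroup.subset_normalClosure
  by_cases htop : G₀ = ⊤
  swap
  · have hlt : Nat.card G₀ ≤ n := by
      have h1 : Nat.card G₀ < Nat.card G :=
        lt_of_le_of_ne (Subgroup.card_le_card_group _) fun he => htop (Subgroup.eq_top_of_card_eq _ he)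
      omega
    have h1 := ih G₀ (H.subgroupOf G₀) hlt (h.subgroupOf hHG₀)
    set K := Subgroup.normalClosure ((H.subgroupOf G₀ : Subgroup G₀) : Set G₀) with hKdef
    have hcl : G₀ ≤ K.map G₀.subtype := by
      conv_lhs => rw [hG₀, Subgroup.normalClosure]
      rw [Subgroup.closure_le]
      intro s hs
      obtain ⟨t, htH, hts⟩ := Group.mem_conjugatesOfSet_iff.1 hs
      obtain ⟨g, rfl⟩ := isConj_iff.1 hts
      obtain ⟨o, ho, he⟩ := h.exists_mem hHG₀ (show cj g H ≤ G₀ by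
        rintro _ ⟨y, hy, rfl⟩; exact Subgroup.normalClosure_normal.conj_mem y (hHG₀ hy) g)
      have h2 : g * t * g⁻¹ ∈ cj o H := he ▸ mem_cj.2 (by simpa [mul_assoc] using htH)
      rw [mem_cj] at h2
      refine ⟨(⟨o, ho⟩ : G₀) * ⟨_, hHG₀ h2⟩ * (⟨o, ho⟩ : G₀)⁻¹,
        Subgroup.normalClosure_normal.conj_mem (⟨_, hHG₀ h2⟩ : G₀)
          (Subgroup.subset_normalClosure (show (⟨_, hHG₀ h2⟩ : G₀) ∈ H.subgroupOf G₀ from h2)) _, ?_⟩
      simp [mul_assoc]
    rintro x ⟨hx, hxN⟩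
    obtain ⟨k, hk, rfl⟩ := hcl hx
    exact h1 ⟨hk, Subgroup.mem_normalizer_iff.2 fun y => Subgroup.mem_normalizer_iff.1 hxN (y : G)⟩
  rw [show G₀ ⊓ Subgroup.normalizer (H : Set G) = Subgroup.normalizer (H : Set G) by rw [htop, top_inf_eq]]
  by_cases hH : H = ⊥
  · have h1 : (⊤ : Subgroup G) ≤ ⊥ := by
      rw [← htop, hG₀, hH]
      exact Subgroup.normalClosure_le_normal le_rfl
    exact hH ▸ le_trans le_top h1
  have quot : ∀ M : Subgroup G, ∀ [M.Normal], M ≠ ⊥ → Subgroup.normalizer (H : Set G) ≤ H ⊔ M := by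
    intro M _ hM
    have hlt : Nat.card (G ⧸ M) ≤ n := by
      have h2 := (Subgroup.one_lt_card_iff_ne_bot M).2 hM
      have h3 := Subgroup.card_eq_card_quotient_mul_card_subgroup M
      have h4 : 0 < Nat.card (G ⧸ M) := Nat.card_pos
      have : Nat.card (G ⧸ M) < Nat.card G := h3 ▸ lt_mul_of_one_lt_right h4 h2
      omega
    have h1 := ih (G ⧸ M) _ hlt (h.quotient M)
    intro y hy
    have h2 : QuotientGroup.mk' M y ∈ H.map (QuotientGroup.mk' M) := by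
      refine h1 ⟨?_, Subgroup.le_normalizer_map _ (Subgroup.mem_map_of_mem _ hy)⟩
      have h3 := Subgroup.mem_map_of_mem (QuotientGroup.mk' M) (show y ∈ G₀ from htop ▸ Subgroup.mem_top y)
      rw [hG₀, Subgroup.map_normalClosure _ _ (QuotientGroup.mk'_surjective M), ← Subgroup.coe_map] at h3
      exact h3
    have h4 : y ∈ (H.map (QuotientGroup.mk' M)).comap (QuotientGroup.mk' M) := h2
    rwa [Subgroup.comap_map_eq, QuotientGroup.ker_mk'] at h4
  obtain ⟨z, hz⟩ := exists_prime_orderOf_dvd_card' (G := H) p (by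
    obtain ⟨k, hk⟩ := h.1.exists_card_eq
    rcases k with _ | k
    · exact absurd (Subgroup.card_eq_one.1 (by simpa using hk)) hH
    · exact hk ▸ dvd_pow_self p (Nat.succ_ne_zero k))
  rw [← Subgroup.orderOf_coe] at hz
  by_cases hxc : (z : G) ∈ Subgroup.center G
  · haveI : (Subgroup.zpowers (z : G)).Normal := ⟨fun m hm g => by
      rw [Subgroup.mem_center_iff.1 (Subgroup.zpowers_le.2 hxc hm) g, mul_inv_cancel_right]; exact hm⟩
    refine (quot (Subgroup.zpowers (z : G)) ?_).trans (sup_le le_rfl (Subgroup.zpowers_le.2 z.2))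
    rw [Ne, Subgroup.zpowers_eq_bot]
    intro e; rw [e, orderOf_one] at hz; exact hp.out.ne_one hz.symm
  set O := Cfsg.pPrimeCore p G with hOdef
  haveI hOn : O.Normal := FittingCores.pPrimeCore_normal p
  have hO : ¬ p ∣ Nat.card O := hp.out.coprime_iff_not_dvd.1 (FittingCores.pPrimeCore_coprime p).symm
  have hOH : O ⊔ H = ⊤ := by
    refine top_le_iff.1 ?_
    rw [← htop, hG₀, Subgroup.normalClosure, Subgroup.closure_le]
    intro s hs
    obtain ⟨t, htH, hts⟩ := Group.mem_conjugatesOfSet_iff.1 hs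
    obtain ⟨g, rfl⟩ := isConj_iff.1 hts
    obtain ⟨o, ho, m, hm, rfl⟩ := Subgroup.mem_sup_of_normal_left.1
      ((by rw [sup_comm, hOdef, main hp2 h]; trivial) : g ∈ O ⊔ Subgroup.normalizer (H : Set G))
    have h2 : m * t * m⁻¹ ∈ H := (Subgroup.mem_normalizer_iff.1 hm t).1 htH
    rw [show o * m * t * (o * m)⁻¹ = o * (m * t * m⁻¹) * o⁻¹ by group]
    exact mul_mem (mul_mem (Subgroup.mem_sup_left (T := H) ho) (Subgroup.mem_sup_right h2))
      (inv_mem (Subgroup.mem_sup_left (T := H) ho))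
  have htriv : ∀ m ∈ Subgroup.normalizer (H : Set G), ∀ a ∈ H, m * a * m⁻¹ = a := by
    intro m hm a ha
    obtain ⟨o, ho, b, hb, rfl⟩ := Subgroup.mem_sup_of_normal_left.1 ((by rw [hOH]; trivial) : m ∈ O ⊔ H)
    have hba : b * a * b⁻¹ = a := by rw [h.2.1 b hb a ha, mul_inv_cancel_right]
    rw [show o * b * a * (o * b)⁻¹ = o * (b * a * b⁻¹) * o⁻¹ by group, hba]
    have h1 : o * a * o⁻¹ * a⁻¹ ∈ H := by
      refine mul_mem ?_ (inv_mem ha)
      have h3 := (Subgroup.mem_normalizer_iff.1 hm a).1 ha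
      rwa [show o * b * a * (o * b)⁻¹ = o * (b * a * b⁻¹) * o⁻¹ by group, hba] at h3
    have h2 : o * a * o⁻¹ * a⁻¹ ∈ O := by
      rw [mul_assoc o a, mul_assoc o]
      exact mul_mem ho (hOn.conj_mem _ (inv_mem ho) a)
    exact mul_inv_eq_one.1 (eq_one_of_pgroup h.1 h1 fun hd => hO (hd.trans (Subgroup.orderOf_dvd_natCard O h2)))
  have hsub : ∀ U : Subgroup G, U ≠ ⊤ → H ≤ U →
      Subgroup.normalClosure ((H.subgroupOf U : Subgroup U) : Set U) ⊓
        Subgroup.normalizer ((H.subgroupOf U : Subgroup U) : Set U) ≤ H.subgroupOf U := by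
    intro U hU hHU
    refine ih U _ ?_ (h.subgroupOf hHU)
    have h1 : Nat.card U < Nat.card G :=
      lt_of_le_of_ne (Subgroup.card_le_card_group _) fun he => hU (Subgroup.eq_top_of_card_eq _ he)
    omega
  have hone := centralizer_core_eq_bot hp2 h O hO hOH htriv z.2 hz hxc
    (hsub _ (fun he => hxc (Subgroup.mem_center_iff.2 fun y =>
        Subgroup.mem_centralizer_singleton_iff.1 (he ▸ Subgroup.mem_top y)))
      fun a ha => Subgroup.mem_centralizer_singleton_iff.2 (h.2.1 a ha _ z.2))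
    (fun M hM hMne hMO c hc hcN => by
      haveI := hM
      obtain ⟨m, hm, b, hb, hmb⟩ := Subgroup.mem_sup_of_normal_left.1
        ((by rw [sup_comm]; exact quot M hMne hcN) : c ∈ M ⊔ H)
      have hbO : b ∈ O := by
        rw [show b = m⁻¹ * c by rw [← hmb, inv_mul_cancel_left]]
        exact mul_mem (inv_mem (hMO hm)) hc
      have hb1 := eq_one_of_pgroup h.1 hb fun hd => hO (hd.trans (Subgroup.orderOf_dvd_natCard O hbO))
      rw [← hmb, hb1, mul_one]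
      exact hm)
  intro y hy
  obtain ⟨o, ho, b, hb, rfl⟩ := Subgroup.mem_sup_of_normal_left.1 ((by rw [hOH]; trivial) : y ∈ O ⊔ H)
  have hoN : o ∈ Subgroup.normalizer (H : Set G) := by
    have := mul_mem hy (inv_mem (Subgroup.le_normalizer hb))
    rwa [mul_inv_cancel_right] at this
  rwa [hone o ho hoN, one_mul]

theorem closure_inf_normalizer (hp2 : p ≠ 2) {G : Type u} [Group G] [Finite G] {H : Subgroup G} (h : Hyp p H) :
    Subgroup.normalClosure (H : Set G) ⊓ Subgroup.normalizer (H : Set G) = H :=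
  le_antisymm (closure_aux hp2 _ G H le_rfl h) (le_inf Subgroup.subset_normalClosure Subgroup.le_normalizer)

end Cfsg.Agent.XClosedP
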