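import Cfsg.Agent.Lib.ExtremelyClosed.AbelianOdd.CaseT
import Cfsg.Agent.Lib.ExtremelyClosed.AbelianOdd.CaseOPos
import Cfsg.Agent.Lib.Solvable.Hall

/-!
`G = N(H) O_{p'}(G)` for an extremely closed abelian `p`-subgroup `H`, `p` odd.
-/

set_option autoImplicit false
set_option linter.style.haveILetI false
set_option linter.unusedSectionVars false

namespace Cfsg.Agent.XClosedP

open Cfsg
open Cfsg.Agent.XClosedAb (cj mem_cj cj_cj cj_one mem_normalizer_cj card_cj)

universe u

variable {p : ℕ} [hp : Fact p.Prime]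

theorem main_aux (hp2 : p ≠ 2) : ∀ (n : ℕ) (G : Type u) [Group G] [Finite G] (H : Subgroup G), Nat.card G ≤ n →
    Hyp p H → Subgroup.normalizer (H : Set G) ⊔ Cfsg.pPrimeCore p G = ⊤ := by
  intro n
  induction n with
  | zero => intro G _ _ H hn; exact absurd hn (by have := Nat.card_pos (α := G); omega)
  | succ n ih =>
  intro G _ _ H hn h
  by_cases hH : H = ⊥
  · subst hH
    rw [eq_top_iff]
    intro g _
    refine Subgroup.mem_sup_left (Subgroup.mem_normalizer_iff.2 fun x => ?_)
    simp [conj_eq_one_iff]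
  set O := Cfsg.pPrimeCore p G with hOdef
  haveI hOn : O.Normal := FittingCores.pPrimeCore_normal p
  have quot : ∀ M : Subgroup G, ∀ [M.Normal], M ≠ ⊥ → M ≤ Subgroup.normalizer (H : Set G) ⊔ O →
      (Cfsg.pPrimeCore p (G ⧸ M)).comap (QuotientGroup.mk' M) ≤ Subgroup.normalizer (H : Set G) ⊔ O →
      Subgroup.normalizer (H : Set G) ⊔ O = ⊤ := by
    intro M _ hM hMle hQle
    have hlt : Nat.card (G ⧸ M) ≤ n := by
      have h2 := (Subgroup.one_lt_card_iff_ne_bot M).2 hM
      have h3 := Subgroup.card_eq_card_quotient_mul_card_subgroup M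
      have h4 : 0 < Nat.card (G ⧸ M) := Nat.card_pos
      have : Nat.card (G ⧸ M) < Nat.card G := h3 ▸ lt_mul_of_one_lt_right h4 h2
      omega
    have h1 := ih (G ⧸ M) _ hlt (h.quotient M)
    rw [eq_top_iff]
    intro g _
    have hg : QuotientGroup.mk' M g ∈ (Subgroup.normalizer (H : Set G) ⊔ O).map (QuotientGroup.mk' M) := by
      have h5 : QuotientGroup.mk' M g ∈ Subgroup.normalizer ((H.map (QuotientGroup.mk' M) : Subgroup _) : Set (G ⧸ M)) ⊔
          Cfsg.pPrimeCore p (G ⧸ M) := h1 ▸ Subgroup.mem_top _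
      refine (sup_le ((h.normalizer_map M).trans (Subgroup.map_mono (sup_le le_sup_left hMle))) ?_ :
        _ ≤ (Subgroup.normalizer (H : Set G) ⊔ O).map (QuotientGroup.mk' M)) h5
      intro z hz
      obtain ⟨z, rfl⟩ := QuotientGroup.mk'_surjective M z
      exact Subgroup.mem_map_of_mem _ (hQle hz)
    have h6 : g ∈ ((Subgroup.normalizer (H : Set G) ⊔ O).map (QuotientGroup.mk' M)).comap (QuotientGroup.mk' M) := hg
    rwa [Subgroup.comap_map_eq, QuotientGroup.ker_mk', sup_eq_left.2 hMle] at h6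
  by_cases hO : O = ⊥
  swap
  · refine quot O hO le_sup_right (le_trans ?_ le_sup_right)
    haveI : (Cfsg.pPrimeCore p (G ⧸ O)).Normal := FittingCores.pPrimeCore_normal p
    refine FittingCores.le_pPrimeCore inferInstance ?_
    rw [HallSolv.card_comap_mk]
    exact Nat.Coprime.mul_left (FittingCores.pPrimeCore_coprime p) (FittingCores.pPrimeCore_coprime p)
  by_cases hcen : ∃ z ∈ H, orderOf z = p ∧ z ∈ Subgroup.center G
  · obtain ⟨z, hzH, hzp, hzc⟩ := hcen
    haveI : (Subgroup.zpowers z).Normal := ⟨fun m hm g => by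
      rw [Subgroup.mem_center_iff.1 (Subgroup.zpowers_le.2 hzc hm) g, mul_inv_cancel_right]; exact hm⟩
    have hzN : Subgroup.zpowers z ≤ Subgroup.normalizer (H : Set G) :=
      (Subgroup.zpowers_le.2 hzH).trans Subgroup.le_normalizer
    refine quot (Subgroup.zpowers z) ?_ (hzN.trans le_sup_left) (le_trans ?_ (hzN.trans le_sup_left))
    · rw [Ne, Subgroup.zpowers_eq_bot]
      intro e; rw [e, orderOf_one] at hzp; exact hp.out.ne_one hzp.symm
    set Q := (Cfsg.pPrimeCore p (G ⧸ Subgroup.zpowers z)).comap (QuotientGroup.mk' (Subgroup.zpowers z)) with hQdef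
    haveI : (Cfsg.pPrimeCore p (G ⧸ Subgroup.zpowers z)).Normal := FittingCores.pPrimeCore_normal p
    haveI hQn : Q.Normal := inferInstance
    have hzQ : Subgroup.zpowers z ≤ Q := by
      intro x hx
      rw [hQdef, Subgroup.mem_comap, QuotientGroup.mk'_apply, (QuotientGroup.eq_one_iff x).2 hx]
      exact one_mem _
    set Z := (Subgroup.zpowers z).subgroupOf Q
    have hZp : IsPGroup p Z :=
      (IsPGroup.of_card (n := 1) (by rw [Nat.card_zpowers, hzp, pow_one]) : IsPGroup p (Subgroup.zpowers z)).comap_subtype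
    have hZi : ¬ p ∣ Z.index := by
      have h1 : Nat.card Q = Nat.card (Cfsg.pPrimeCore p (G ⧸ Subgroup.zpowers z)) * p := by
        rw [hQdef, HallSolv.card_comap_mk, Nat.card_zpowers, hzp, mul_comm]
      have h2 := Z.card_mul_index
      rw [Nat.card_congr (Subgroup.subgroupOfEquivOfLe hzQ).toEquiv, Nat.card_zpowers, hzp, h1, mul_comm p,
        Nat.mul_left_inj hp.out.ne_zero] at h2
      rw [h2]
      exact (hp.out.coprime_iff_not_dvd).1 (FittingCores.pPrimeCore_coprime p).symm
    let P : Sylow p Q := hZp.toSylow hZi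
    have hcentral : ∀ x ∈ Z, ∀ y : Q, y * x = x * y := fun x hx y =>
      Subtype.ext (Subgroup.mem_center_iff.1 (Subgroup.zpowers_le.2 hzc hx) y)
    have hcent : Subgroup.normalizer ((P : Subgroup Q) : Set Q) ≤ Subgroup.centralizer ((P : Subgroup Q) : Set Q) :=
      fun x _ => Subgroup.mem_centralizer_iff.2 fun y hy => (hcentral y hy x).symm
    set K := (MonoidHom.transferSylow P hcent).ker
    have hc := MonoidHom.ker_transferSylow_isComplement' P hcent
    have hKp : ¬ p ∣ Nat.card K := fun hd => P.not_dvd_index (by rwa [hc.index_eq_card])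
    have hKchar : ∀ x : Q, ¬ p ∣ orderOf x → x ∈ K := fun x hx => by
      rw [MonoidHom.mem_ker]
      have hpg : IsPGroup p ((P : Subgroup Q).map Q.subtype) := P.isPGroup'.map _
      have h1 := eq_one_of_pgroup hpg (Subgroup.mem_map_of_mem _ (MonoidHom.transferSylow P hcent x).2)
        (fun hd => hx (by
          rw [Subgroup.coe_subtype, Subgroup.orderOf_coe, Subgroup.orderOf_coe] at hd
          exact hd.trans (orderOf_map_dvd _ x)))
      exact Subtype.ext (Subtype.ext h1)
    have hKn : (K.map Q.subtype).Normal := ⟨by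
      rintro _ ⟨x, hx, rfl⟩ g
      refine ⟨⟨g * x * g⁻¹, hQn.conj_mem _ x.2 g⟩, hKchar _ fun hd => ?_, rfl⟩
      rw [← Subgroup.orderOf_coe, Subgroup.coe_mk, show g * (x : G) * g⁻¹ = MulAut.conj g x from rfl,
        MulEquiv.orderOf_eq, Subgroup.orderOf_coe] at hd
      exact hKp (hd.trans (Subgroup.orderOf_dvd_natCard K hx))⟩
    have hKbot : K = ⊥ := by
      have h1 : K.map Q.subtype ≤ O := FittingCores.le_pPrimeCore hKn (by
        rw [Subgroup.card_map_of_injective Q.subtype_injective]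
        exact (hp.out.coprime_iff_not_dvd.2 hKp).symm)
      rw [hO, le_bot_iff, Subgroup.map_eq_bot_iff_of_injective _ Q.subtype_injective] at h1
      exact h1
    have hPtop : (P : Subgroup Q) = ⊤ := Subgroup.isComplement'_bot_left.1 (hKbot ▸ hc)
    intro x hx
    have : (⟨x, hx⟩ : Q) ∈ (P : Subgroup Q) := hPtop ▸ Subgroup.mem_top _
    exact this
  push Not at hcen
  set G₀ := Subgroup.normalClosure (H : Set G) with hG₀
  have hHG₀ : H ≤ G₀ := Subgroup.subset_normalClosure
  have sub : ∀ U : Subgroup G, U ≠ ⊤ → ∀ A : Subgroup G, Mem H A → A ≤ U →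
      Subgroup.normalizer ((A.subgroupOf U : Subgroup U) : Set U) ⊔ Cfsg.pPrimeCore p U = ⊤ := by
    intro U hU A hA hAU
    refine ih U _ ?_ ((hA.hyp h).subgroupOf hAU)
    have h1 : Nat.card U < Nat.card G :=
      lt_of_le_of_ne (Subgroup.card_le_card_group _) fun he => hU (Subgroup.eq_top_of_card_eq _ he)
    omega
  by_cases htop : G₀ = ⊤
  · exfalso
    have c : Crit p H := ⟨h, hO, htop, hH, hcen, sub⟩
    haveI : Fintype G := Fintype.ofFinite G
    by_cases ht : Triv p H
    · exact false_of_triv c ht hp2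
    by_cases hcyc : IsCyclic H
    swap
    · exact ht (triv_of_not_isCyclic h c.loc htop hcyc)
    obtain ⟨g, hg⟩ := hcyc.exists_zpow_surjective
    obtain ⟨n', hn', x, hx, hxp, hne⟩ : ∃ n' ∈ Subgroup.normalizer (H : Set G), ∃ x ∈ H, orderOf x = p ∧
        n' * x * n'⁻¹ ≠ x := by
      by_contra hall
      push Not at hall
      exact ht fun m hm x hx hxp => hall m hm x hx hxp
    have hgen : Subgroup.zpowers (g : G) = H := by
      refine le_antisymm (Subgroup.zpowers_le.2 g.2) fun y hy => ?_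
      obtain ⟨i, hi⟩ := hg ⟨y, hy⟩
      exact Subgroup.mem_zpowers_iff.2 ⟨i, congrArg Subtype.val hi⟩
    obtain ⟨a, ha⟩ := h.1.exists_card_eq
    have hord : orderOf (g : G) = p ^ a := by rw [← Nat.card_zpowers, hgen, ha]
    obtain ⟨e, he⟩ : ∃ e : ℕ, (g : G) ^ e = n' * g * n'⁻¹ :=
      mem_powers_iff_mem_zpowers.2 (le_of_eq hgen.symm ((Subgroup.mem_normalizer_iff.1 hn' _).1 g.2))
    haveI : NeZero (p ^ a) := ⟨pow_ne_zero _ hp.out.ne_zero⟩
    refine false_of_cyc (N := p ^ a) (h := (g : G)) ⟨c, hp2, hgen, hord, ⟨a, ?_, rfl⟩, n', e, he.symm, fun hmod => ?_⟩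
    · rintro rfl
      exact hH (Subgroup.card_eq_one.1 (by simpa using ha))
    · refine hne ?_
      obtain ⟨k, hk⟩ := mem_powers_iff_mem_zpowers.2 (le_of_eq hgen.symm hx)
      simp only at hk
      rw [← hk, ← conj_pow, ← he, ← pow_mul, mul_comm, pow_mul, hk]
      conv_rhs => rw [← pow_one x]
      exact pow_eq_pow_iff_modEq.2 (hxp.symm ▸ hmod)
  · have hlt : Nat.card G₀ ≤ n := by
      have h1 : Nat.card G₀ < Nat.card G :=
        lt_of_le_of_ne (Subgroup.card_le_card_group _) fun he => htop (Subgroup.eq_top_of_card_eq _ he)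
      omega
    have h1 := ih G₀ (H.subgroupOf G₀) hlt (h.subgroupOf hHG₀)
    haveI : G₀.Normal := Subgroup.normalClosure_normal
    have hle : G₀ ≤ Subgroup.normalizer (H : Set G) ⊔ O := by
      calc G₀ = (⊤ : Subgroup G₀).map G₀.subtype := by rw [← MonoidHom.range_eq_map, Subgroup.range_subtype]
        _ ≤ _ := by
          rw [← h1, Subgroup.map_sup]
          refine sup_le_sup ?_ (FittingCores.pPrimeCore_map_subtype_le p inferInstance)
          rintro _ ⟨x, hx, rfl⟩
          exact coe_mem_normalizer hHG₀ hx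
    rw [eq_top_iff]
    intro g _
    obtain ⟨o, ho, he⟩ := h.exists_mem hHG₀ (show cj g H ≤ G₀ by
      rintro _ ⟨y, hy, rfl⟩; exact ‹G₀.Normal›.conj_mem y (hHG₀ hy) g)
    have hn' : o⁻¹ * g ∈ Subgroup.normalizer (H : Set G) := by
      rw [mem_normalizer_cj, ← cj_cj, he, cj_cj, inv_mul_cancel, cj_one]
    have := mul_mem (hle ho) (Subgroup.mem_sup_left (T := O) hn')
    rwa [mul_inv_cancel_left] at this

theorem main (hp2 : p ≠ 2) {G : Type u} [Group G] [Finite G] {H : Subgroup G} (h : Hyp p H) :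
    Subgroup.normalizer (H : Set G) ⊔ Cfsg.pPrimeCore p G = ⊤ :=
  main_aux hp2 _ G H le_rfl h

end Cfsg.Agent.XClosedP
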