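import Cfsg.Agent.Lib.ExtremelyClosed.Abelian.Pair

/-!
An extremely closed abelian `p`-subgroup `H` is a Sylow `p`-subgroup with a normal complement of the subgroup it
generates with any conjugate; invariance of the hypothesis under subgroups, conjugation and quotients.
-/

set_option autoImplicit false
set_option linter.style.haveILetI false
set_option linter.unusedSectionVars false

namespace Cfsg.Agent.XClosedP

open Cfsg.Agent.XClosedAb (cj mem_cj cj_cj cj_one mem_normalizer_cj card_cj)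

variable {G : Type*} [Group G] {p : ℕ}

/-- The hypothesis on `H`: an abelian extremely closed `p`-subgroup. -/
def Hyp (p : ℕ) (H : Subgroup G) : Prop :=
  IsPGroup p H ∧ (∀ a ∈ H, ∀ b ∈ H, a * b = b * a) ∧
    ∀ g x : G, x ∈ H ⊔ cj g H → x ∈ Subgroup.normalizer (H : Set G) → x ∈ H

theorem hyp_of_isExtremelyClosed {H : Subgroup G} (hHp : IsPGroup p H) (hHab : IsMulCommutative H)
    (hcl : Cfsg.IsExtremelyClosed H) : Hyp p H :=
  ⟨hHp, fun a ha b hb => congrArg Subtype.val (hHab.is_comm.comm (⟨a, ha⟩ : H) ⟨b, hb⟩),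
    fun g x hx hn => by
      have : x ∈ (H ⊔ cj g H) ⊓ Subgroup.normalizer (H : Set G) := ⟨hx, hn⟩
      rwa [hcl g] at this⟩

theorem coe_mem_normalizer {H U : Subgroup G} (hU : H ≤ U) {x : U}
    (hx : x ∈ Subgroup.normalizer ((H.subgroupOf U : Subgroup U) : Set U)) :
    (x : G) ∈ Subgroup.normalizer (H : Set G) := by
  rw [Subgroup.mem_normalizer_iff] at hx ⊢
  intro y
  constructor
  · intro hy; exact (hx ⟨y, hU hy⟩).1 hy
  · intro hy
    have hyU : y ∈ U := by
      have := mul_mem (mul_mem (inv_mem x.2) (hU hy)) x.2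
      simpa [mul_assoc] using this
    exact (hx ⟨y, hyU⟩).2 hy

theorem Hyp.conj {H : Subgroup G} (h : Hyp p H) (c : G) : Hyp p (cj c H) := by
  refine ⟨h.1.map _, ?_, fun g x hx hn => ?_⟩
  · intro a ha b hb
    rw [mem_cj] at ha hb
    have := congrArg (fun u => c * u * c⁻¹) (h.2.1 _ ha _ hb)
    simpa [mul_assoc] using this
  · rw [mem_cj]
    refine h.2.2 (c⁻¹ * g * c) _ ?_ ?_
    · have : c⁻¹ * x * c ∈ cj c⁻¹ (cj c H ⊔ cj g (cj c H)) := by
        rw [mem_cj, inv_inv, show c * (c⁻¹ * x * c) * c⁻¹ = x by group]; exact hx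
      rwa [cj, Subgroup.map_sup, ← cj, ← cj, cj_cj, cj_cj, cj_cj, inv_mul_cancel, cj_one] at this
    · rw [mem_normalizer_cj] at hn ⊢
      rw [cj_cj] at hn
      have := congrArg (cj c⁻¹) hn
      rw [cj_cj, cj_cj, inv_mul_cancel, cj_one, ← mul_assoc] at this
      exact this

theorem Hyp.subgroupOf {H : Subgroup G} (h : Hyp p H) {U : Subgroup G} (hU : H ≤ U) :
    Hyp p (H.subgroupOf U) := by
  refine ⟨h.1.comap_subtype, fun a ha b hb => Subtype.ext (h.2.1 _ ha _ hb), fun g x hx hn => ?_⟩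
  refine h.2.2 (g : G) x ?_ (coe_mem_normalizer hU hn)
  have := Subgroup.mem_map_of_mem U.subtype hx
  rw [Subgroup.map_sup, Subgroup.map_subgroupOf_eq_of_le hU] at this
  refine sup_le_sup_left ?_ H this
  rintro _ ⟨_, ⟨y, hy, rfl⟩, rfl⟩
  exact ⟨y, hy, by simp⟩

variable [hp : Fact p.Prime]

theorem eq_one_of_pgroup {x : G} {A : Subgroup G} (hA : IsPGroup p A) (hx : x ∈ A) (ho : ¬ p ∣ orderOf x) :
    x = 1 := by
  obtain ⟨k, hk⟩ := hA ⟨x, hx⟩
  have hk' : x ^ p ^ k = 1 := congrArg Subtype.val hk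
  obtain ⟨j, -, hj⟩ := (Nat.dvd_prime_pow hp.out).1 (orderOf_dvd_of_pow_eq_one hk')
  rcases j with _ | j
  · exact orderOf_eq_one_iff.1 hj
  · exact absurd (hj ▸ dvd_pow_self p (Nat.succ_ne_zero j)) ho

variable [Finite G]

/-- The subgroup generated by `A` and a conjugate: a retraction onto `A` with kernel the `p'`-elements. -/
theorem Hyp.pair {A : Subgroup G} (h : Hyp p A) (g : G) :
    ∃ π : ↥(A ⊔ cj g A) →* G, (∀ x : ↥(A ⊔ cj g A), π x ∈ A) ∧
      (∀ x : ↥(A ⊔ cj g A), (x : G) ∈ A → π x = (x : G)) ∧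
      (∀ x : ↥(A ⊔ cj g A), ¬ p ∣ orderOf (x : G) ↔ π x = 1) ∧
      (∃ o : ↥(A ⊔ cj g A), π o = 1 ∧ cj g A = cj (o : G) A) ∧
      (∀ Z : Subgroup G, Z ≤ A ⊔ cj g A → IsPGroup p Z →
        ∃ o : ↥(A ⊔ cj g A), Z ≤ cj (o : G) A) ∧
      ¬ p ∣ Nat.card π.ker := by
  classical
  set X := A ⊔ cj g A with hXdef
  have hHX : A ≤ X := le_sup_left
  set A' := A.subgroupOf X with hA
  have hA2 : IsPGroup p A' := h.1.comap_subtype
  have hNA : Subgroup.normalizer (A' : Set X) ≤ A' := fun x hx => h.2.2 g x x.2 (coe_mem_normalizer hHX hx)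
  obtain ⟨P, hAP⟩ := hA2.exists_le_sylow
  have hPA : (P : Subgroup X) = A' := by
    by_contra hne
    have hlt : A'.subgroupOf (P : Subgroup X) < ⊤ := by
      rw [lt_top_iff_ne_top, Ne, Subgroup.subgroupOf_eq_top]
      exact fun hle => hne (le_antisymm hle hAP)
    have := P.isPGroup'.isNilpotent
    obtain ⟨z, hz, hzn⟩ := SetLike.exists_of_lt (Group.normalizerCondition_of_isNilpotent _ hlt)
    exact hzn (hNA (coe_mem_normalizer hAP hz))
  have hcent : Subgroup.normalizer ((P : Subgroup X) : Set X) ≤ Subgroup.centralizer ((P : Subgroup X) : Set X) := by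
    rw [hPA]
    intro x hx
    rw [Subgroup.mem_centralizer_iff]
    intro y hy
    exact Subtype.ext (h.2.1 _ hy _ (hNA hx))
  set K := (MonoidHom.transferSylow P hcent).ker with hK
  have hc := MonoidHom.ker_transferSylow_isComplement' P hcent
  haveI : K.Normal := inferInstance
  have hKcard : ¬ p ∣ Nat.card K := fun hd => P.not_dvd_index (by rwa [hc.index_eq_card])
  let e := (hc.symm : Subgroup.IsComplement' (P : Subgroup X) K).QuotientMulEquiv
  let π : X →* G := (X.subtype.comp (P : Subgroup X).subtype).comp (e.toMonoidHom.comp (QuotientGroup.mk' K))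
  have hπmem : ∀ x : X, π x ∈ A := fun x => (SetLike.ext_iff.1 hPA _).1 (e (QuotientGroup.mk' K x)).2
  have hπid : ∀ x : X, (x : G) ∈ A → π x = x := by
    intro x hx
    have hxP : x ∈ (P : Subgroup X) := hPA ▸ hx
    have : e (QuotientGroup.mk' K x) = ⟨x, hxP⟩ := by
      apply e.symm.injective
      rw [MulEquiv.symm_apply_apply]
      rfl
    show (((e (QuotientGroup.mk' K x)) : X) : G) = x
    rw [this]
  have hπker : ∀ x : X, π x = 1 ↔ x ∈ K := by
    intro x
    show (((e (QuotientGroup.mk' K x)) : X) : G) = 1 ↔ _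
    rw [← Subgroup.coe_one X, Subtype.coe_inj, ← Subgroup.coe_one (P : Subgroup X), Subtype.coe_inj,
      e.map_eq_one_iff, QuotientGroup.mk'_apply, QuotientGroup.eq_one_iff]
  have hkerK : π.ker = K := by ext x; rw [MonoidHom.mem_ker, hπker]
  have hsyl : ∀ Z : Subgroup G, Z ≤ X → IsPGroup p Z → ∃ o : X, Z ≤ cj (o : G) A := by
    intro Z hZX hZ
    obtain ⟨Q, hQ⟩ := (hZ.comap_subtype (H := Z) (K := X)).exists_le_sylow
    obtain ⟨x, hx⟩ := MulAction.exists_smul_eq X P Q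
    refine ⟨x, fun z hz => ?_⟩
    have hzQ : (⟨z, hZX hz⟩ : X) ∈ ((x • P : Sylow p X) : Subgroup X) := hx ▸ hQ hz
    rw [Sylow.coe_subgroup_smul, hPA] at hzQ
    obtain ⟨w, hw, hwe⟩ := Subgroup.mem_smul_pointwise_iff_exists _ _ _ |>.1 hzQ
    exact ⟨(w : G), hw, congrArg Subtype.val hwe⟩
  refine ⟨π, hπmem, hπid, fun x => ⟨fun hx => ?_, fun hx hd => ?_⟩, ?_, hsyl, hkerK ▸ hKcard⟩
  · refine eq_one_of_pgroup h.1 (hπmem x) fun hd => hx ?_
    rw [Subgroup.orderOf_coe]
    exact hd.trans (orderOf_map_dvd π x)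
  · rw [hπker] at hx
    rw [Subgroup.orderOf_coe] at hd
    exact hKcard (hd.trans (Subgroup.orderOf_dvd_natCard K hx))
  · obtain ⟨x, hx⟩ := hsyl (cj g A) le_sup_right (h.1.map _)
    have hx' : cj g A = cj (x : G) A :=
      Subgroup.eq_of_le_of_card_ge hx (by rw [card_cj, card_cj])
    refine ⟨x * (⟨π x, hHX (hπmem x)⟩ : X)⁻¹, ?_, ?_⟩
    · rw [map_mul, map_inv, hπid ⟨π x, hHX (hπmem x)⟩ (hπmem x), mul_inv_cancel]
    · rw [hx', Subgroup.coe_mul, Subgroup.coe_inv, ← cj_cj,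
        mem_normalizer_cj.1 (Subgroup.le_normalizer (inv_mem (hπmem x)))]

/-- Any subgroup containing `H` and a conjugate of it conjugates the one into the other. -/
theorem Hyp.exists_mem {H : Subgroup G} (h : Hyp p H) {U : Subgroup G} (hU : H ≤ U) {g : G} (hg : cj g H ≤ U) :
    ∃ o ∈ U, cj g H = cj o H := by
  obtain ⟨π, -, -, -, ⟨o, -, he⟩, -, -⟩ := h.pair g
  exact ⟨o, (sup_le hU hg) o.2, he⟩

theorem Hyp.normalizer_map {H : Subgroup G} (h : Hyp p H) (M : Subgroup G) [M.Normal] :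
    Subgroup.normalizer ((H.map (QuotientGroup.mk' M) : Subgroup (G ⧸ M)) : Set (G ⧸ M)) ≤
      (Subgroup.normalizer (H : Set G) ⊔ M).map (QuotientGroup.mk' M) := by
  intro x hx
  obtain ⟨g, rfl⟩ := QuotientGroup.mk'_surjective M x
  refine ⟨g, ?_, rfl⟩
  have hgH : cj g H ≤ H ⊔ M := by
    intro y hy
    rw [mem_cj] at hy
    have h1 := (Subgroup.mem_normalizer_iff.1 hx _).1 (Subgroup.mem_map_of_mem (QuotientGroup.mk' M) hy)
    rw [← map_inv, ← map_mul, ← map_mul, show g * (g⁻¹ * y * g) * g⁻¹ = y by group] at h1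
    rw [← QuotientGroup.ker_mk' M, ← Subgroup.comap_map_eq]
    exact h1
  obtain ⟨o, ho, he⟩ := h.exists_mem le_sup_left hgH
  have hn : o⁻¹ * g ∈ Subgroup.normalizer (H : Set G) := by
    rw [mem_normalizer_cj, ← cj_cj, he, cj_cj, inv_mul_cancel, cj_one]
  have := mul_mem (sup_le_sup_right (Subgroup.le_normalizer (H := H)) M ho)
    (Subgroup.mem_sup_left (T := M) hn)
  rwa [mul_inv_cancel_left] at this

theorem Hyp.quotient {H : Subgroup G} (h : Hyp p H) (M : Subgroup G) [M.Normal] :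
    Hyp p (H.map (QuotientGroup.mk' M)) := by
  refine ⟨h.1.map _, ?_, fun g x hx hn => ?_⟩
  · rintro _ ⟨a, ha, rfl⟩ _ ⟨b, hb, rfl⟩
    rw [← map_mul, ← map_mul, h.2.1 a ha b hb]
  obtain ⟨g, rfl⟩ := QuotientGroup.mk'_surjective M g
  have hmap : cj (QuotientGroup.mk' M g) (H.map (QuotientGroup.mk' M)) = (cj g H).map (QuotientGroup.mk' M) := by
    simp only [cj, Subgroup.map_map]
    congr 1
  rw [hmap, ← Subgroup.map_sup] at hx
  obtain ⟨x, hxX, rfl⟩ := hx
  set Y := (H ⊔ M) ⊓ (H ⊔ cj g H)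
  have hxH : cj x H ≤ Y := by
    intro y hy
    rw [mem_cj] at hy
    refine ⟨?_, ?_⟩
    · have h1 := (Subgroup.mem_normalizer_iff.1 hn _).1 (Subgroup.mem_map_of_mem (QuotientGroup.mk' M) hy)
      rw [← map_inv, ← map_mul, ← map_mul, show x * (x⁻¹ * y * x) * x⁻¹ = y by group] at h1
      rw [← QuotientGroup.ker_mk' M, ← Subgroup.comap_map_eq]
      exact h1
    · have := mul_mem (mul_mem hxX (Subgroup.mem_sup_left (T := cj g H) hy)) (inv_mem hxX)
      simpa [mul_assoc] using this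
  obtain ⟨o, ho, he⟩ := h.exists_mem (le_inf le_sup_left le_sup_left) hxH
  have hox : o⁻¹ * x ∈ H := by
    refine h.2.2 g _ (mul_mem (inv_mem ho.2) hxX) ?_
    rw [mem_normalizer_cj, ← cj_cj, he, cj_cj, inv_mul_cancel, cj_one]
  have hxm : x ∈ H ⊔ M := by
    have := mul_mem ho.1 (Subgroup.mem_sup_left (T := M) hox)
    rwa [mul_inv_cancel_left] at this
  have h2 : QuotientGroup.mk' M x ∈ (H ⊔ M).map (QuotientGroup.mk' M) := Subgroup.mem_map_of_mem _ hxm
  rwa [Subgroup.map_sup, QuotientGroup.map_mk'_self, sup_bot_eq] at h2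

end Cfsg.Agent.XClosedP
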