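import Cfsg.Agent.Lib.ExtremelyClosed.AbelianOdd.Pair
import Cfsg.Agent.Lib.Solvable.Fitting
import Cfsg.Agent.Lib.Solvable.Coprime
import Cfsg.Prelude.Def_CaseTheorems

/-!
Partners of the elements of conjugates of an extremely closed abelian `p`-subgroup: with a local factorisation in
the centralisers, the relation "quotient of order prime to `p`" is transitive when the subgroup is not cyclic,
and the normaliser then centralises the subgroup.
-/

set_option autoImplicit false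
set_option linter.style.haveILetI false
set_option linter.unusedSectionVars false

namespace Cfsg.Agent.XClosedP

open Cfsg
open Cfsg.Agent.XClosedAb (cj mem_cj cj_cj cj_one mem_normalizer_cj card_cj)

universe u

variable {G : Type u} [Group G] {p : ℕ}

/-- Being a conjugate of `H`. -/
def Mem (H A : Subgroup G) : Prop := ∃ g : G, A = cj g H

/-- Lying in a conjugate of `H`. -/
def InM (H : Subgroup G) (x : G) : Prop := ∃ A, Mem H A ∧ x ∈ A

/-- The quotient has order prime to `p`. -/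
def Rel (p : ℕ) (x y : G) : Prop := ¬ p ∣ orderOf (x⁻¹ * y)

theorem Mem.self {H : Subgroup G} : Mem H H := ⟨1, (cj_one H).symm⟩

theorem Mem.cj' {H A : Subgroup G} (h : Mem H A) (g : G) : Mem H (cj g A) := by
  obtain ⟨c, rfl⟩ := h
  exact ⟨g * c, cj_cj _ _ _⟩

theorem Mem.conj_pair {H A B : Subgroup G} (hA : Mem H A) (hB : Mem H B) : ∃ g, B = cj g A := by
  obtain ⟨a, rfl⟩ := hA
  obtain ⟨b, rfl⟩ := hB
  exact ⟨b * a⁻¹, by rw [cj_cj, inv_mul_cancel_right]⟩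

theorem InM.conj {H : Subgroup G} {y : G} (h : InM H y) (c : G) : InM H (c * y * c⁻¹) := by
  obtain ⟨B, hB, hy⟩ := h
  refine ⟨cj c B, hB.cj' c, ?_⟩
  rw [mem_cj]
  simpa [mul_assoc] using hy

theorem Rel.symm {x y : G} (h : Rel p x y) : Rel p y x := by
  unfold Rel at *
  rwa [show y⁻¹ * x = (x⁻¹ * y)⁻¹ by group, orderOf_inv]

theorem Rel.conj {x y : G} (h : Rel p x y) (c : G) : Rel p (c * x * c⁻¹) (c * y * c⁻¹) := by
  unfold Rel at *
  rwa [show (c * x * c⁻¹)⁻¹ * (c * y * c⁻¹) = MulAut.conj c (x⁻¹ * y) by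
    simp [MulAut.conj_apply, mul_assoc], MulEquiv.orderOf_eq]

/-- Factorisation in the centraliser of every non-trivial element of a conjugate. -/
def Loc (p : ℕ) (H : Subgroup G) : Prop :=
  ∀ x : G, x ≠ 1 → ∀ A : Subgroup G, Mem H A → x ∈ A →
    Subgroup.normalizer ((A.subgroupOf (Subgroup.centralizer ({x} : Set G)) :
        Subgroup ↥(Subgroup.centralizer ({x} : Set G))) : Set ↥(Subgroup.centralizer ({x} : Set G))) ⊔
      Cfsg.pPrimeCore p ↥(Subgroup.centralizer ({x} : Set G)) = ⊤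

/-- The normaliser centralises the elements of order `p` of `H`. -/
def Triv (p : ℕ) (H : Subgroup G) : Prop :=
  ∀ n ∈ Subgroup.normalizer (H : Set G), ∀ x ∈ H, orderOf x = p → n * x * n⁻¹ = x

variable [hp : Fact p.Prime]

theorem Rel.self (x : G) : Rel p x x := by
  unfold Rel
  rw [inv_mul_cancel, orderOf_one]
  exact hp.out.not_dvd_one

variable [Finite G] {H : Subgroup G} (h : Hyp p H)
include h

theorem Mem.hyp {A : Subgroup G} (hA : Mem H A) : Hyp p A := by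
  obtain ⟨g, rfl⟩ := hA; exact h.conj g

theorem pair_data {A B : Subgroup G} (hA : Mem H A) (hB : Mem H B) :
    ∃ π : ↥(A ⊔ B) →* G, (∀ x : ↥(A ⊔ B), π x ∈ A) ∧ (∀ x : ↥(A ⊔ B), (x : G) ∈ A → π x = (x : G)) ∧
      (∀ x : ↥(A ⊔ B), ¬ p ∣ orderOf (x : G) ↔ π x = 1) ∧
      (∃ o : ↥(A ⊔ B), π o = 1 ∧ B = cj (o : G) A) ∧
      (∀ Z : Subgroup G, Z ≤ A ⊔ B → IsPGroup p Z → ∃ o : ↥(A ⊔ B), Z ≤ cj (o : G) A) ∧
      ¬ p ∣ Nat.card π.ker := by
  obtain ⟨g, rfl⟩ := hA.conj_pair hB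
  exact (hA.hyp h).pair g

theorem exists_rel {A : Subgroup G} (hA : Mem H A) {y : G} (hy : InM H y) : ∃ a ∈ A, Rel p a y := by
  obtain ⟨B, hB, hyB⟩ := hy
  obtain ⟨π, hπA, hπid, hodd, -, -, -⟩ := pair_data h hA hB
  let y' : ↥(A ⊔ B) := ⟨y, Subgroup.mem_sup_right hyB⟩
  refine ⟨π y', hπA y', ?_⟩
  let a' : ↥(A ⊔ B) := ⟨π y', Subgroup.mem_sup_left (hπA y')⟩
  exact (hodd (a'⁻¹ * y')).2 (by rw [map_mul, map_inv, hπid a' (hπA y'), inv_mul_cancel])

theorem unique_rel {A : Subgroup G} (hA : Mem H A) {y a a' : G} (hy : InM H y) (ha : a ∈ A) (ha' : a' ∈ A)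
    (r : Rel p a y) (r' : Rel p a' y) : a = a' := by
  obtain ⟨B, hB, hyB⟩ := hy
  obtain ⟨π, hπA, hπid, hodd, -, -, -⟩ := pair_data h hA hB
  let y' : ↥(A ⊔ B) := ⟨y, Subgroup.mem_sup_right hyB⟩
  have h1 := (hodd ((⟨a, Subgroup.mem_sup_left ha⟩ : ↥(A ⊔ B))⁻¹ * y')).1 r
  have h2 := (hodd ((⟨a', Subgroup.mem_sup_left ha'⟩ : ↥(A ⊔ B))⁻¹ * y')).1 r'
  rw [map_mul, map_inv, hπid _ ha, inv_mul_eq_one] at h1
  rw [map_mul, map_inv, hπid _ ha', inv_mul_eq_one] at h2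
  exact h1.trans h2.symm

theorem shared {A B : Subgroup G} (hA : Mem H A) (hB : Mem H B) {x : G} (hxA : x ∈ A) (hxB : x ∈ B) :
    ∃ c ∈ Subgroup.centralizer ({x} : Set G), B = cj c A := by
  obtain ⟨π, hπA, hπid, hodd, ⟨o, ho, he⟩, -, -⟩ := pair_data h hA hB
  refine ⟨(o : G), ?_, he⟩
  rw [he, mem_cj] at hxB
  let a : ↥(A ⊔ B) := ⟨_, Subgroup.mem_sup_left hxB⟩
  let x' : ↥(A ⊔ B) := ⟨x, Subgroup.mem_sup_left hxA⟩
  have h1 : x' = o * a * o⁻¹ := Subtype.ext (by simp [x', a, mul_assoc])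
  have h2 := congrArg π h1
  rw [map_mul, map_mul, map_inv, ho, one_mul, inv_one, mul_one, hπid x' hxA, hπid a hxB] at h2
  change x = (o : G)⁻¹ * x * o at h2
  rw [Subgroup.mem_centralizer_singleton_iff]
  conv_lhs => rw [h2]
  group

/-- An element of order prime to `p` of a pair subgroup centralising a non-trivial element of the first member
lies in the core of the centraliser. -/
theorem mem_core (hloc : Loc p H) {A : Subgroup G} (hA : Mem H A) {x : G} (hx : x ∈ A) (hx1 : x ≠ 1) {g r : G}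
    (hrX : r ∈ A ⊔ cj g A) (hr : ¬ p ∣ orderOf r) (hrC : r ∈ Subgroup.centralizer ({x} : Set G)) :
    (⟨r, hrC⟩ : ↥(Subgroup.centralizer ({x} : Set G))) ∈ Cfsg.pPrimeCore p ↥(Subgroup.centralizer ({x} : Set G)) := by
  set U := Subgroup.centralizer ({x} : Set G)
  set O := Cfsg.pPrimeCore p U
  haveI : O.Normal := FittingCores.pPrimeCore_normal p
  have hyA := hA.hyp h
  have hAU : A ≤ U := fun z hz => Subgroup.mem_centralizer_singleton_iff.2 (hyA.2.1 z hz x hx)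
  have htop := hloc x hx1 A hA hx
  obtain ⟨t, ht, n, hn, htn⟩ := Subgroup.mem_sup_of_normal_left.1
    ((by rw [sup_comm, htop]; trivial) : (⟨r, hrC⟩ : U) ∈ O ⊔ _)
  have hnA : cj (n : G) A = A := mem_normalizer_cj.1 (coe_mem_normalizer hAU hn)
  have hrA : cj r A ≤ (A ⊔ O.map U.subtype) ⊓ (A ⊔ cj g A) := by
    refine le_inf ?_ ?_
    · rw [show r = (t : G) * n from (congrArg Subtype.val htn).symm, ← cj_cj, hnA]
      rintro _ ⟨z, hz, rfl⟩
      have ht' : (t : G) ∈ A ⊔ O.map U.subtype := Subgroup.mem_sup_right (Subgroup.mem_map_of_mem _ ht)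
      exact mul_mem (mul_mem ht' (Subgroup.mem_sup_left hz)) (inv_mem ht')
    · rintro _ ⟨z, hz, rfl⟩
      exact mul_mem (mul_mem hrX (Subgroup.mem_sup_left hz)) (inv_mem hrX)
  obtain ⟨o, ho, he⟩ := hyA.exists_mem (le_inf le_sup_left le_sup_left) hrA
  have hor : o⁻¹ * r ∈ A := by
    refine hyA.2.2 g _ (mul_mem (inv_mem ho.2) hrX) ?_
    rw [mem_normalizer_cj, ← cj_cj, he, cj_cj, inv_mul_cancel, cj_one]
  have hrAO : r ∈ A ⊔ O.map U.subtype := by
    have := mul_mem ho.1 (Subgroup.mem_sup_left (T := O.map U.subtype) hor)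
    rwa [mul_inv_cancel_left] at this
  have hrAO' : (⟨r, hrC⟩ : U) ∈ A.subgroupOf U ⊔ O := by
    rw [← Subgroup.mem_map_iff_mem U.subtype_injective, Subgroup.map_sup,
      Subgroup.map_subgroupOf_eq_of_le hAU]
    exact hrAO
  rw [← QuotientGroup.eq_one_iff]
  have hq : QuotientGroup.mk' O (⟨r, hrC⟩ : U) ∈ (A.subgroupOf U).map (QuotientGroup.mk' O) := by
    have h2 := Subgroup.mem_map_of_mem (QuotientGroup.mk' O) hrAO'
    rwa [Subgroup.map_sup, QuotientGroup.map_mk'_self, sup_bot_eq] at h2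
  refine eq_one_of_pgroup (hyA.1.comap_subtype.map _) hq fun hd => hr ?_
  have h3 := hd.trans (orderOf_map_dvd (QuotientGroup.mk' O) (⟨r, hrC⟩ : U))
  rwa [Subgroup.orderOf_mk] at h3

variable (hloc : Loc p H)
include hloc

/-- Transitivity inside the centraliser of an element. -/
theorem trans_local {x : G} (hx1 : x ≠ 1) {A B C : Subgroup G} (hA : Mem H A) (hB : Mem H B) (hC : Mem H C)
    (hxA : x ∈ A) (hxB : x ∈ B) (hxC : x ∈ C) {u v w : G} (hu : u ∈ A) (hv : v ∈ B) (hw : w ∈ C)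
    (r₁ : Rel p u v) (r₂ : Rel p v w) : Rel p u w := by
  set U := Subgroup.centralizer ({x} : Set G) with hU
  have htop := hloc x hx1 A hA hxA
  set O := Cfsg.pPrimeCore p U
  haveI : O.Normal := FittingCores.pPrimeCore_normal p
  have hyA := hA.hyp h
  have hAU : A ≤ U := fun z hz => Subgroup.mem_centralizer_singleton_iff.2 (hyA.2.1 z hz x hxA)
  let q := QuotientGroup.mk' O
  have himg : ∀ D : Subgroup G, Mem H D → x ∈ D → ∀ z ∈ D, ∃ hz : z ∈ U, ∃ a : A,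
      q ⟨z, hz⟩ = q ⟨a, hAU a.2⟩ := by
    intro D hD hxD z hz
    obtain ⟨c, hc, rfl⟩ := shared h hA hD hxA hxD
    rw [mem_cj] at hz
    have hzU : z ∈ U := by
      have := mul_mem (mul_mem hc (hAU hz)) (inv_mem hc)
      simpa [mul_assoc] using this
    refine ⟨hzU, ?_⟩
    obtain ⟨o, ho, n, hn, hon⟩ := Subgroup.mem_sup_of_normal_left.1
      ((by rw [sup_comm, htop]; trivial) : (⟨c, hc⟩ : U) ∈ O ⊔ _)
    let a₀ : U := ⟨_, hAU hz⟩
    have ha₁ : n * a₀ * n⁻¹ ∈ A.subgroupOf U :=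
      (Subgroup.mem_normalizer_iff.1 hn a₀).1 hz
    refine ⟨⟨((n * a₀ * n⁻¹ : U) : G), ha₁⟩, ?_⟩
    have he : (⟨z, hzU⟩ : U) = o * (n * a₀ * n⁻¹) * o⁻¹ := by
      rw [show o * (n * a₀ * n⁻¹) * o⁻¹ = (o * n) * a₀ * (o * n)⁻¹ by group, hon]
      exact Subtype.ext (by simp [a₀, mul_assoc])
    rw [he, map_mul, map_mul, map_inv, show q o = 1 from (QuotientGroup.eq_one_iff o).2 ho, one_mul, inv_one,
      mul_one]
  obtain ⟨huU, a₁, h₁⟩ := himg A hA hxA u hu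
  obtain ⟨hvU, a₂, h₂⟩ := himg B hB hxB v hv
  obtain ⟨hwU, a₃, h₃⟩ := himg C hC hxC w hw
  have hzero : ∀ {s t : U} {b c : A}, q s = q ⟨b, hAU b.2⟩ → q t = q ⟨c, hAU c.2⟩ →
      Rel p (s : G) t → q s = q t := by
    intro s t b c hs ht hrel
    rw [← inv_mul_eq_one]
    have h4 : IsPGroup p ((A.subgroupOf U).map q) := hyA.1.comap_subtype.map _
    refine eq_one_of_pgroup h4 ?_ fun hd => hrel ?_
    · rw [hs, ht, ← map_inv, ← map_mul]
      exact Subgroup.mem_map_of_mem _ (mul_mem (inv_mem b.2) c.2 : ((b : G))⁻¹ * c ∈ A)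
    · rw [← map_inv, ← map_mul] at hd
      have h5 := hd.trans (orderOf_map_dvd q (s⁻¹ * t))
      rwa [← Subgroup.orderOf_coe, Subgroup.coe_mul, Subgroup.coe_inv] at h5
  have h6 : (⟨u, huU⟩ : U)⁻¹ * ⟨w, hwU⟩ ∈ O := by
    rw [← QuotientGroup.eq_one_iff]
    show q _ = 1
    rw [map_mul, map_inv, inv_mul_eq_one]
    exact (hzero h₁ h₂ r₁).trans (hzero h₂ h₃ r₂)
  intro hd
  have h7 := Subgroup.orderOf_dvd_natCard O h6
  rw [← Subgroup.orderOf_coe, Subgroup.coe_mul, Subgroup.coe_inv] at h7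
  exact hp.out.coprime_iff_not_dvd.1 (FittingCores.pPrimeCore_coprime (G := U) p).symm (hd.trans h7)

theorem compat {A A' : Subgroup G} (hA : Mem H A) (hA' : Mem H A') {x : G} (hx1 : x ≠ 1) (hxA : x ∈ A)
    (hxA' : x ∈ A') {y a a' : G} (hy : InM H y) (ha : a ∈ A) (r : Rel p a y)
    (ha' : a' ∈ A') (r' : Rel p a' y) : Rel p a a' := by
  obtain ⟨B, hB, hyB⟩ := hy
  obtain ⟨π, hπA, hπid, hodd, -, hsyl, hker⟩ := pair_data h hA hB
  let x' : ↥(A ⊔ B) := ⟨x, Subgroup.mem_sup_left hxA⟩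
  let y' : ↥(A ⊔ B) := ⟨y, Subgroup.mem_sup_right hyB⟩
  set Y : Subgroup ↥(A ⊔ B) := Subgroup.closure {x', y'}
  have hxY : x' ∈ Y := Subgroup.subset_closure (Set.mem_insert _ _)
  have hyY : y' ∈ Y := Subgroup.subset_closure (Set.mem_insert_of_mem _ rfl)
  -- a Sylow subgroup of `Y` through `x`
  have hxp : IsPGroup p (Subgroup.zpowers (⟨x', hxY⟩ : Y)) := by
    have h1 : IsPGroup p ((A.subgroupOf (A ⊔ B)).subgroupOf Y) := (hA.hyp h).1.comap_subtype.comap_subtype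
    exact h1.to_le (Subgroup.zpowers_le.2 hxA)
  obtain ⟨Q, hQ⟩ := hxp.exists_le_sylow
  set f : Y →* G := π.comp Y.subtype
  have hf : (Q : Subgroup Y).map f = f.range := by
    have hp1 : IsPGroup p f.range := by
      refine (hA.hyp h).1.to_le ?_
      rintro _ ⟨z, rfl⟩
      exact hπA _
    have h3 := (Q.mapSurjective f.rangeRestrict_surjective).is_maximal' (hp1.to_subgroup ⊤) le_top
    rw [Sylow.coe_mapSurjective] at h3
    calc (Q : Subgroup Y).map f = ((Q : Subgroup Y).map f.rangeRestrict).map f.range.subtype := by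
          rw [Subgroup.map_map, MonoidHom.subtype_comp_rangeRestrict]
      _ = _ := by rw [← h3, ← MonoidHom.range_eq_map, Subgroup.range_subtype]
  obtain ⟨w, hwQ, hwe⟩ : π y' ∈ (Q : Subgroup Y).map f := hf ▸ ⟨⟨y', hyY⟩, rfl⟩
  obtain ⟨o, ho⟩ := hsyl (((Q : Subgroup Y).map Y.subtype).map (A ⊔ B).subtype) (Subgroup.map_subtype_le _)
    ((Q.isPGroup'.map _).map _)
  have hxC : x ∈ cj (o : G) A := ho ⟨x', ⟨⟨x', hxY⟩, hQ (Subgroup.mem_zpowers _), rfl⟩, rfl⟩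
  have hwC : (((w : ↥(A ⊔ B))) : G) ∈ cj (o : G) A := ho ⟨w, ⟨w, hwQ, rfl⟩, rfl⟩
  -- the partners of `y` agree with those of `w`
  have hwy : Rel p (((w : ↥(A ⊔ B))) : G) y := (hodd (((w : ↥(A ⊔ B)))⁻¹ * y')).2 (by
    rw [map_mul, map_inv, inv_mul_eq_one]; exact hwe)
  have haw : Rel p a (((w : ↥(A ⊔ B))) : G) := by
    have ea : π y' = a := by
      have h1 := (hodd ((⟨a, Subgroup.mem_sup_left ha⟩ : ↥(A ⊔ B))⁻¹ * y')).1 r
      rw [map_mul, map_inv, hπid _ ha, inv_mul_eq_one] at h1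
      exact h1.symm
    exact (hodd ((⟨a, Subgroup.mem_sup_left ha⟩ : ↥(A ⊔ B))⁻¹ * ((w : ↥(A ⊔ B))))).2 (by
      rw [map_mul, map_inv, hπid _ ha, inv_mul_eq_one]; exact ea.symm.trans hwe.symm)
  obtain ⟨π', -, hπid', hodd', -, -, -⟩ := pair_data h hA' hB
  have hYX : Y.map (A ⊔ B).subtype ≤ A' ⊔ B := by
    rw [Subgroup.map_le_iff_le_comap, Subgroup.closure_le]
    rintro z (rfl | rfl)
    · exact Subgroup.mem_sup_left hxA'
    · exact Subgroup.mem_sup_right hyB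
  let wX : ↥(A' ⊔ B) := ⟨_, hYX (Subgroup.mem_map_of_mem _ w.2)⟩
  let yX : ↥(A' ⊔ B) := ⟨y, Subgroup.mem_sup_right hyB⟩
  let aX : ↥(A' ⊔ B) := ⟨a', Subgroup.mem_sup_left ha'⟩
  have e1 : π' (wX⁻¹ * yX) = 1 := (hodd' (wX⁻¹ * yX)).1 hwy
  have e2 : π' (aX⁻¹ * yX) = 1 := (hodd' (aX⁻¹ * yX)).1 r'
  have hwa' : Rel p (((w : ↥(A ⊔ B))) : G) a' := by
    refine Rel.symm ((hodd' (aX⁻¹ * wX)).2 ?_)
    rw [show aX⁻¹ * wX = (aX⁻¹ * yX) * (wX⁻¹ * yX)⁻¹ by group, map_mul, map_inv, e1, e2, inv_one, mul_one]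
  exact trans_local h hloc hx1 hA (hA.cj' _) hA' hxA hxC hxA' ha hwC ha' haw hwa'

/-- Two elements have the same partner in `A`. -/
def Part (p : ℕ) (A : Subgroup G) (y z : G) : Prop := ∃ a ∈ A, Rel p a y ∧ Rel p a z

theorem part_shared {A A' : Subgroup G} (hA : Mem H A) (hA' : Mem H A') {x : G} (hx1 : x ≠ 1)
    (hxA : x ∈ A) (hxA' : x ∈ A') {y z : G} (hy : InM H y) (hz : InM H z) (hp' : Part p A y z) :
    Part p A' y z := by
  obtain ⟨a, ha, ry, rz⟩ := hp'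
  obtain ⟨b, hb, rb⟩ := exists_rel h hA' hy
  obtain ⟨c, hc, rc⟩ := exists_rel h hA' hz
  have h1 := compat h hloc hA hA' hx1 hxA hxA' hy ha ry hb rb
  have h2 := compat h hloc hA hA' hx1 hxA hxA' hz ha rz hc rc
  have hbc := unique_rel h hA' ⟨A, hA, ha⟩ hb hc h1.symm h2.symm
  exact ⟨b, hb, rb, hbc ▸ rc⟩

theorem part_all (hcyc : ¬ IsCyclic H) {A B : Subgroup G} (hA : Mem H A) (hB : Mem H B) {y z : G} (hy : InM H y)
    (hz : InM H z) (hp' : Part p A y z) : Part p B y z := by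
  obtain ⟨π, hπA, hπid, hodd, ⟨o, ho, he⟩, -, hker⟩ := pair_data h hA hB
  set R : Subgroup G := π.ker.map (A ⊔ B).subtype with hR
  have hcycA : ¬ IsCyclic A := by
    intro hc
    obtain ⟨g, rfl⟩ := hA
    exact hcyc ((MulEquiv.isCyclic (Subgroup.equivMapOfInjective H _ (MulAut.conj g).injective)).2 hc)
  haveI : IsMulCommutative A := ⟨⟨fun a b => Subtype.ext ((hA.hyp h).2.1 _ a.2 _ b.2)⟩⟩
  have hAR : A ≤ Subgroup.normalizer (R : Set G) := by
    intro a ha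
    rw [Subgroup.mem_normalizer_iff]
    intro r
    have hn : (π.ker).Normal := inferInstance
    constructor
    · rintro ⟨r', hr', rfl⟩
      exact ⟨_, hn.conj_mem r' hr' ⟨a, Subgroup.mem_sup_left ha⟩, rfl⟩
    · rintro ⟨r', hr', he⟩
      refine ⟨_, hn.conj_mem r' hr' (⟨a, Subgroup.mem_sup_left ha⟩ : ↥(A ⊔ B))⁻¹, ?_⟩
      change (r' : G) = a * r * a⁻¹ at he
      simp [he, mul_assoc]
  have hcop : (Nat.card A).Coprime (Nat.card R) := by
    obtain ⟨k, hk⟩ := (hA.hyp h).1.exists_card_eq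
    rw [hk, hR, Subgroup.card_map_of_injective (A ⊔ B).subtype_injective]
    exact (hp.out.coprime_iff_not_dvd.2 hker).pow_left k
  have hgen := CoprimeAct.generated_by_centralizers hcycA hAR hcop
  let S : Subgroup G :=
    { carrier := {r | ∀ g : G, Part p (cj g A) y z ↔ Part p (cj (g * r) A) y z}
      one_mem' := fun g => by rw [mul_one]
      mul_mem' := fun {a b} ha hb g => by rw [ha g, hb (g * a), mul_assoc]
      inv_mem' := fun {a} ha g => by rw [ha (g * a⁻¹), inv_mul_cancel_right] }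
  have hS : R ≤ S := by
    rw [← hgen]
    refine iSup₂_le fun a ha c hc g => ?_
    have hca : c⁻¹ * a * c = a := by
      rw [mul_assoc, ← Subgroup.mem_centralizer_singleton_iff.1 hc.2, inv_mul_cancel_left]
    have h1 : g * a * g⁻¹ ∈ cj g A := by rw [mem_cj]; simpa [mul_assoc] using ha.1
    have h2 : g * a * g⁻¹ ∈ cj (g * c) A := by
      rw [mem_cj, show (g * c)⁻¹ * (g * a * g⁻¹) * (g * c) = c⁻¹ * a * c by group, hca]
      exact ha.1
    have h3 : g * a * g⁻¹ ≠ 1 := fun e => ha.2 (conj_eq_one_iff.1 e)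
    exact ⟨part_shared h hloc (hA.cj' _) (hA.cj' _) h3 h1 h2 hy hz,
      part_shared h hloc (hA.cj' _) (hA.cj' _) h3 h2 h1 hy hz⟩
  have h4 := hS (show (o : G) ∈ R from ⟨o, ho, rfl⟩) 1
  rw [one_mul, cj_one, ← he] at h4
  exact h4.1 hp'

theorem rel_trans (hcyc : ¬ IsCyclic H) {x y z : G} (hx : InM H x) (hy : InM H y) (hz : InM H z)
    (r₁ : Rel p x y) (r₂ : Rel p y z) : Rel p x z := by
  obtain ⟨B, hB, hyB⟩ := hy
  have hxx := hx
  obtain ⟨A, hA, hxA⟩ := hx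
  obtain ⟨a, ha, rx, rz⟩ := part_all h hloc hcyc hB hA hxx hz ⟨y, hyB, r₁.symm, r₂⟩
  rwa [unique_rel h hA hxx ha hxA rx (Rel.self x)] at rz

theorem rel_conj (hcyc : ¬ IsCyclic H) {g : G} (hg : g ∈ Subgroup.normalClosure (H : Set G)) :
    ∀ {y : G}, InM H y → Rel p y (g * y * g⁻¹) := by
  induction hg using Subgroup.closure_induction with
  | mem s hs =>
    intro y hy
    obtain ⟨t, ht, hts⟩ := Group.mem_conjugatesOfSet_iff.1 hs
    obtain ⟨c, rfl⟩ := isConj_iff.1 hts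
    have hA : Mem H (cj c H) := ⟨c, rfl⟩
    obtain ⟨a, ha, ra⟩ := exists_rel h hA hy
    refine rel_trans h hloc hcyc hy ⟨_, hA, ha⟩ (hy.conj _) ra.symm ?_
    have := ra.conj (c * t * c⁻¹)
    rwa [(hA.hyp h).2.1 (c * t * c⁻¹) (mem_cj.2 (by simpa [mul_assoc] using ht)) a ha,
      mul_inv_cancel_right] at this
  | one => intro y _; simpa using Rel.self (p := p) y
  | mul a b _ _ ha hb =>
    intro y hy
    have h1 := rel_trans h hloc hcyc hy (hy.conj b) ((hy.conj b).conj a) (hb hy) (ha (hy.conj b))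
    rwa [show a * (b * y * b⁻¹) * a⁻¹ = a * b * y * (a * b)⁻¹ by group] at h1
  | inv a _ ha =>
    intro y hy
    have h1 := (ha (hy.conj a⁻¹)).symm
    rwa [show a * (a⁻¹ * y * a⁻¹⁻¹) * a⁻¹ = y by group] at h1

theorem triv_of_not_isCyclic (htop : Subgroup.normalClosure (H : Set G) = ⊤) (hcyc : ¬ IsCyclic H) :
    Triv p H := by
  intro n hn x hx _
  have hx' : InM H x := ⟨H, Mem.self, hx⟩
  have r := rel_conj h hloc hcyc (htop ▸ Subgroup.mem_top n : n ∈ Subgroup.normalClosure (H : Set G)) hx'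
  exact (unique_rel h Mem.self (hx'.conj n) hx ((Subgroup.mem_normalizer_iff.1 hn x).1 hx) r (Rel.self _)).symm

omit hloc

/-- If the normaliser centralises the elements of order `p` of `H`, then every conjugate of such an element is
its partner. -/
theorem rel_of_triv (ht : Triv p H) {A : Subgroup G} (hA : Mem H A) {x : G} (hx : x ∈ A) (hxp : orderOf x = p)
    (g : G) : Rel p x (g * x * g⁻¹) := by
  obtain ⟨c, rfl⟩ := hA
  rw [mem_cj] at hx
  set x₀ := c⁻¹ * x * c with hx₀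
  have hx₀p : orderOf x₀ = p := by
    rw [hx₀, show c⁻¹ * x * c = MulAut.conj c⁻¹ x by simp [MulAut.conj_apply], MulEquiv.orderOf_eq, hxp]
  suffices key : ∀ f : G, Rel p x₀ (f * x₀ * f⁻¹) by
    have := (key (c⁻¹ * g * c)).conj c
    rwa [show c * x₀ * c⁻¹ = x by simp [hx₀, mul_assoc],
      show c * (c⁻¹ * g * c * x₀ * (c⁻¹ * g * c)⁻¹) * c⁻¹ = g * x * g⁻¹ by simp [hx₀, mul_assoc]] at this
  intro f
  obtain ⟨π, -, hπid, hodd, ⟨o, ho, he⟩, -, -⟩ := pair_data h (Mem.self (H := H)) (⟨f, rfl⟩ : Mem H (cj f H))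
  have hn : (o : G)⁻¹ * f ∈ Subgroup.normalizer (H : Set G) := by
    have h1 : cj (o : G)⁻¹ (cj f H) = cj (o : G)⁻¹ (cj (o : G) H) := congrArg _ he
    rw [cj_cj, cj_cj, inv_mul_cancel, cj_one] at h1
    exact mem_normalizer_cj.2 h1
  have e : f * x₀ * f⁻¹ = (o : G) * x₀ * (o : G)⁻¹ := by
    conv_rhs => rw [← ht _ hn x₀ hx hx₀p]
    group
  rw [e]
  let x' : ↥(H ⊔ cj f H) := ⟨x₀, Subgroup.mem_sup_left hx⟩
  exact (hodd (x'⁻¹ * (o * x' * o⁻¹))).2 (by
    simp only [map_mul, map_inv, ho, one_mul, inv_one, mul_one, inv_mul_cancel])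

end Cfsg.Agent.XClosedP
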