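import Cfsg.Agent.Lib.ExtremelyClosed.AbelianOdd.Partner
import Cfsg.Agent.Lib.Blocks.SecondMain
import Cfsg.Agent.Lib.Blocks.Misc
import Cfsg.Agent.Lib.Char.GlaubermanMod
import Cfsg.Agent.Lib.Char.Integral
import Cfsg.Agent.Lib.Char.Orbit
import Cfsg.Agent.Lib.Char.RootUnityPSingular
import Cfsg.Agent.Lib.BrauerPairs.SuzukiOrth

/-!
A minimal counterexample to the factorisation for an extremely closed abelian `p`-subgroup, and the values of
principal block characters on products of elements of conjugates.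
-/

set_option autoImplicit false
set_option linter.style.haveILetI false
set_option linter.unusedSectionVars false

namespace Cfsg.Agent.XClosedP

open Cfsg Cfsg.Agent.Char Cfsg.Agent.Blocks
open Cfsg.Agent.XClosedAb (cj mem_cj cj_cj cj_one mem_normalizer_cj card_cj)
open scoped ComplexConjugate

universe u

variable {G : Type u} [Group G] {p : ℕ}

/-- A minimal counterexample. -/
structure Crit (p : ℕ) (H : Subgroup G) : Prop where
  hyp : Hyp p H
  core : Cfsg.pPrimeCore p G = ⊥
  top : Subgroup.normalClosure (H : Set G) = ⊤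
  ne_bot : H ≠ ⊥
  nocen : ∀ z ∈ H, orderOf z = p → z ∉ Subgroup.center G
  sub : ∀ U : Subgroup G, U ≠ ⊤ → ∀ A : Subgroup G, Mem H A → A ≤ U →
    Subgroup.normalizer ((A.subgroupOf U : Subgroup U) : Set U) ⊔ Cfsg.pPrimeCore p U = ⊤

variable [hp : Fact p.Prime] [Finite G] {H : Subgroup G}

theorem Crit.exists_order (c : Crit p H) : ∃ x ∈ H, orderOf x = p := by
  obtain ⟨z, hz⟩ := exists_prime_orderOf_dvd_card' (G := H) p (by
    obtain ⟨k, hk⟩ := c.hyp.1.exists_card_eq
    rcases k with _ | k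
    · exact absurd (Subgroup.card_eq_one.1 (by simpa using hk)) c.ne_bot
    · exact hk ▸ dvd_pow_self p (Nat.succ_ne_zero k))
  exact ⟨z, z.2, by rwa [Subgroup.orderOf_coe]⟩

theorem exists_power_order_p {A : Subgroup G} (hA : IsPGroup p A) {x : G} (hx : x ∈ A) (hx1 : x ≠ 1) :
    ∃ m : ℕ, orderOf (x ^ m) = p := by
  obtain ⟨k, hk⟩ := hA ⟨x, hx⟩
  have hk' : x ^ p ^ k = 1 := congrArg Subtype.val hk
  obtain ⟨j, -, hj⟩ := (Nat.dvd_prime_pow hp.out).1 (orderOf_dvd_of_pow_eq_one hk')
  rcases j with _ | j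
  · exact absurd (orderOf_eq_one_iff.1 hj) hx1
  · exact ⟨orderOf x / p, orderOf_pow_orderOf_div (orderOf_pos x).ne' (hj ▸ dvd_pow_self p (Nat.succ_ne_zero j))⟩

theorem Crit.loc (c : Crit p H) : Loc p H := by
  intro x hx1 A hA hxA
  refine c.sub _ (fun he => ?_) A hA fun z hz =>
    Subgroup.mem_centralizer_singleton_iff.2 ((hA.hyp c.hyp).2.1 z hz x hxA)
  obtain ⟨m, hm⟩ := exists_power_order_p (hA.hyp c.hyp).1 hxA hx1
  have hxc : x ^ m ∈ Subgroup.center G := pow_mem (Subgroup.mem_center_iff.2 fun y =>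
    Subgroup.mem_centralizer_singleton_iff.1 (he ▸ Subgroup.mem_top y)) m
  obtain ⟨g, rfl⟩ := hA
  refine c.nocen (x ^ m) ?_ hm hxc
  have h1 := mem_cj.1 (pow_mem hxA m)
  rwa [mul_assoc, ← Subgroup.mem_center_iff.1 hxc g, inv_mul_cancel_left] at h1

/-- A subgroup containing `H` and a normal subgroup modulo which every element of it is a `p`-element has
trivial core, so normalises `H`. -/
theorem Crit.normalizes (c : Crit p H) {M : Subgroup G} [M.Normal] (hne : M ⊔ H ≠ ⊤) :
    M ≤ Subgroup.normalizer (H : Set G) := by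
  set U := M ⊔ H
  have h1 := c.sub U hne H Mem.self le_sup_right
  set O := Cfsg.pPrimeCore p U
  have hOM : O.map U.subtype ≤ M := by
    rintro _ ⟨u, hu, rfl⟩
    have h2 : QuotientGroup.mk' M (u : G) ∈ H.map (QuotientGroup.mk' M) := by
      have h3 := Subgroup.mem_map_of_mem (QuotientGroup.mk' M) u.2
      rwa [Subgroup.map_sup, QuotientGroup.map_mk'_self, bot_sup_eq] at h3
    refine (QuotientGroup.eq_one_iff _).1 (eq_one_of_pgroup (c.hyp.1.map _) h2 fun hd => ?_)
    have h4 := (hd.trans (orderOf_map_dvd (QuotientGroup.mk' M) (u : G))).trans (dvd_of_eq (Subgroup.orderOf_coe u))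
    exact hp.out.coprime_iff_not_dvd.1 (FittingCores.pPrimeCore_coprime (G := U) p).symm
      (h4.trans (Subgroup.orderOf_dvd_natCard O hu))
  haveI hOn : O.Normal := FittingCores.pPrimeCore_normal p
  have hObot : O.map U.subtype = ⊥ := by
    set K := (O.map U.subtype).subgroupOf M
    have hK : K.Normal := ⟨fun k hk m => by
      obtain ⟨u, hu, hue⟩ := hk
      refine ⟨⟨(m : G), Subgroup.mem_sup_left m.2⟩ * u * ⟨(m : G), Subgroup.mem_sup_left m.2⟩⁻¹,
        hOn.conj_mem u hu _, ?_⟩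
      change (u : G) = (k : G) at hue
      simp [hue]⟩
    have h5 : K ≤ Cfsg.pPrimeCore p M := FittingCores.le_pPrimeCore hK (by
      rw [Nat.card_congr (Subgroup.subgroupOfEquivOfLe hOM).toEquiv,
        Subgroup.card_map_of_injective U.subtype_injective]
      exact FittingCores.pPrimeCore_coprime p)
    have h6 : K.map M.subtype ≤ ⊥ := c.core ▸
      (Subgroup.map_mono h5).trans (FittingCores.pPrimeCore_map_subtype_le p ‹M.Normal›)
    rwa [Subgroup.map_subgroupOf_eq_of_le hOM, le_bot_iff] at h6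
  rw [Subgroup.map_eq_bot_iff_of_injective _ U.subtype_injective] at hObot
  change _ ⊔ O = ⊤ at h1
  rw [hObot, sup_bot_eq] at h1
  intro m hm
  exact coe_mem_normalizer (x := (⟨m, Subgroup.mem_sup_left hm⟩ : U)) le_sup_right (h1 ▸ Subgroup.mem_top _)

variable [Fintype G] {M : Ideal AlgInt} [M.IsPrime]

theorem conj_value (χ : IrrCharacter G) (g x : G) : (χ : G → ℂ) (g * x * g⁻¹) = (χ : G → ℂ) x :=
  irr_conj_invariant χ x g

/-- On a pair subgroup, a principal block character is determined by the partner in the first member. -/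
theorem value_eq (c : Crit p H) (hM : IsPModular p M) {χ : IrrCharacter G} (hχ : χ ∈ principalBlock M G)
    {A B : Subgroup G} (hA : Mem H A) (hB : Mem H B) {s a : G} (hs : s ∈ A ⊔ B) (ha : a ∈ A) (ha1 : a ≠ 1)
    (hr : Rel p a s) : (χ : G → ℂ) s = (χ : G → ℂ) a := by
  classical
  obtain ⟨g, rfl⟩ := hA.conj_pair hB
  obtain ⟨π, hπA, hπid, hodd, -, hsyl, -⟩ := (hA.hyp c.hyp).pair g
  let a' : ↥(A ⊔ cj g A) := ⟨a, Subgroup.mem_sup_left ha⟩
  let s' : ↥(A ⊔ cj g A) := ⟨s, hs⟩
  have hπs : π s' = a := by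
    have h1 := (hodd (a'⁻¹ * s')).1 hr
    rw [map_mul, map_inv, hπid a' ha, inv_mul_eq_one] at h1
    exact h1.symm
  obtain ⟨b, hb⟩ := exists_isPPart hp.out s'
  obtain ⟨d, hbd, hcomm, ⟨k, hk⟩, hd⟩ := hb
  rw [← Subgroup.orderOf_coe] at hd
  have hπb : π b = a := by
    have := congrArg π hbd
    rwa [map_mul, (hodd d).1 hd, mul_one, hπs] at this
  obtain ⟨o, ho⟩ := hsyl (Subgroup.zpowers (b : G)) (Subgroup.zpowers_le.2 b.2)
    (IsPGroup.of_card (n := k) (by rw [Nat.card_zpowers, Subgroup.orderOf_coe, hk]))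
  have hbo := mem_cj.1 (ho (Subgroup.mem_zpowers _))
  let a₂ : ↥(A ⊔ cj g A) := ⟨_, Subgroup.mem_sup_left hbo⟩
  have ha₂ : a₂ = o⁻¹ * b * o := Subtype.ext (by simp [a₂])
  have hba : (o : G)⁻¹ * b * o = a := by
    have h1 := congrArg π ha₂
    rw [hπid a₂ hbo, map_mul, map_mul, map_inv, hπb,
      mul_assoc, (hA.hyp c.hyp).2.1 a ha _ (hπA o), inv_mul_cancel_left] at h1
    exact h1
  set r : G := (o : G)⁻¹ * d * o with hrdef
  have hso : (o : G)⁻¹ * s * o = a * r := by
    have h1 : (b : G) * d = s := congrArg Subtype.val hbd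
    rw [← hba, hrdef, ← h1]
    group
  have hrC : r ∈ Subgroup.centralizer ({a} : Set G) := by
    rw [Subgroup.mem_centralizer_singleton_iff, ← hba, hrdef]
    have h1 : (d : G) * b = b * d := (congrArg Subtype.val hcomm.eq).symm
    calc (o : G)⁻¹ * d * o * ((o : G)⁻¹ * b * o) = (o : G)⁻¹ * ((d : G) * b) * o := by group
      _ = (o : G)⁻¹ * ((b : G) * d) * o := by rw [h1]
      _ = (o : G)⁻¹ * b * o * ((o : G)⁻¹ * d * o) := by group
  have hrX : r ∈ A ⊔ cj g A := mul_mem (mul_mem (inv_mem o.2) d.2) o.2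
  have hro : ¬ p ∣ orderOf r := by
    rwa [hrdef, show (o : G)⁻¹ * d * o = MulAut.conj (o : G)⁻¹ d by simp [MulAut.conj_apply],
      MulEquiv.orderOf_eq]
  have hmem := mem_core c.hyp c.loc hA ha ha1 hrX hro hrC
  haveI : Fintype (Subgroup.centralizer ({a} : Set G)) := Fintype.ofFinite _
  haveI : (Cfsg.pPrimeCore p (Subgroup.centralizer ({a} : Set G))).Normal := FittingCores.pPrimeCore_normal p
  obtain ⟨j, hj⟩ := (hA.hyp c.hyp).1 ⟨a, ha⟩
  obtain ⟨i, -, hi⟩ := (Nat.dvd_prime_pow hp.out).1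
    (orderOf_dvd_of_pow_eq_one (show a ^ p ^ j = 1 from congrArg Subtype.val hj))
  have e := irr_section_of_kernel hM (x := a) ⟨i, hi⟩ (C := Subgroup.centralizer ({a} : Set G)) rfl hχ
    (Cfsg.pPrimeCore p (Subgroup.centralizer ({a} : Set G)))
    (hp.out.coprime_iff_not_dvd.1 (FittingCores.pPrimeCore_coprime p).symm) hmem
  rw [← e, ← conj_value χ (o : G)⁻¹ s, inv_inv, hso]

/-- The sum of the squares of the degrees in a block is divisible by the order of every `p`-subgroup. -/
theorem card_dvd_degSq (hM : IsPModular p M) {B : Set (IrrCharacter G)} (hB : IsPBlock M B) (P : Subgroup G)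
    (hP : IsPGroup p P) : Nat.card P ∣ BrauerPairs.degSq B := by
  classical
  haveI : Fintype P := Fintype.ofFinite P
  set s := Finset.univ.filter (· ∈ B)
  set ψ : G → ℂ := ∑ χ ∈ s, (charDegree (χ : G → ℂ) : ℂ) • (χ : G → ℂ) with hψdef
  have hψ : IsCharacter G ψ := isCharacter_sum _ fun χ _ => IsCharacter.nsmul (irr_isCharacter χ) _
  have hval : ∀ g : G, ψ g = blockPair B g 1 := by
    intro g
    simp only [hψdef, Finset.sum_apply, Pi.smul_apply, smul_eq_mul]
    unfold blockPair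
    exact Finset.sum_congr rfl fun χ _ => by rw [conj_irr_one, irr_one_eq_charDegree, mul_comm]
  have hzero : ∀ x : P, x ≠ 1 → ψ (x : G) = 0 := by
    intro x hx
    obtain ⟨k, hk⟩ := hP x
    obtain ⟨j, -, hj⟩ := (Nat.dvd_prime_pow hp.out).1 (orderOf_dvd_of_pow_eq_one hk)
    rcases j with _ | j
    · exact absurd (orderOf_eq_one_iff.1 hj) hx
    have h1 := blockPair_regular_singular hM hB (u := (1 : G)) (w := (x : G)) (by simpa using hp.out.ne_one)
      (by rw [Subgroup.orderOf_coe, hj]; exact dvd_pow_self p (Nat.succ_ne_zero j))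
    rw [hval]
    have h2 := congrArg (starRingEnd ℂ) h1
    rw [map_zero] at h2
    rw [← h2]
    unfold blockPair
    rw [map_sum]
    exact Finset.sum_congr rfl fun χ _ => by rw [map_mul, Complex.conj_conj, mul_comm]
  obtain ⟨m, hm⟩ := IsCharacter.exists_decomp (IsCharacter.restrict hψ P)
  have h1 : classInner (fun x : P => ψ x) (principal P : P → ℂ) = (m (principal P) : ℂ) := by
    rw [hm, classInner_combination]
  simp only [classInner, Cfsg.Agent.Char.principal, map_one, mul_one] at h1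
  rw [Finset.sum_eq_single (1 : P) (fun x _ hx => hzero x hx) (fun h => absurd (Finset.mem_univ _) h),
    OneMemClass.coe_one, hval, BrauerPairs.blockPair_one_one, inv_mul_eq_iff_eq_mul₀
      (Nat.cast_ne_zero.2 Nat.card_pos.ne'), ← Nat.cast_mul, Nat.cast_inj] at h1
  exact ⟨_, h1⟩

end Cfsg.Agent.XClosedP
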